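import Groth.Agent.H8Props.PseudoCoh.Basic
import Groth.Agent.H8Props.FlatKernel
import Mathlib.RingTheory.Finiteness.Descent
import Mathlib.RingTheory.Localization.Finiteness
import Mathlib.RingTheory.IsTensorProduct
import Mathlib.LinearAlgebra.TensorProduct.RightExactness
import Mathlib.RingTheory.Flat.Equalizer
import Mathlib.RingTheory.Localization.BaseChange
import Mathlib.RingTheory.RingHom.Flat

/-!
# Finite free syzygies: base change and descent

Flat base change, base change along a pushout square with flat module, descent along faithfully flat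
algebras and along a covering by basic localisations.
-/

set_option autoImplicit false
universe u

open TensorProduct

namespace Groth.Agent.H8Props.PseudoCoh

variable {A : Type u} [CommRing A]

section

variable (A' : Type u) [CommRing A'] [Algebra A A']

/-- The kernel of a base changed surjection, when the inclusion stays injective. -/
noncomputable def kerBaseChangeEquiv {M F : Type u} [AddCommGroup M] [Module A M] [AddCommGroup F]
    [Module A F] (f : F →ₗ[A] M) (hf : Function.Surjective f)
    (hinj : Function.Injective ((LinearMap.ker f).subtype.baseChange A')) :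
    A' ⊗[A] LinearMap.ker f ≃ₗ[A'] LinearMap.ker (f.baseChange A') :=
  (LinearEquiv.ofInjective _ hinj).trans <| LinearEquiv.ofEq _ _ <| by
    refine le_antisymm ?_ fun z hz => ?_
    · rintro _ ⟨z, rfl⟩
      exact ((lTensor_exact A' (LinearMap.exact_subtype_ker_map f) hf) _).mpr ⟨z, rfl⟩
    · obtain ⟨w, hw⟩ := ((lTensor_exact A' (LinearMap.exact_subtype_ker_map f) hf) z).mp hz
      exact ⟨w, hw⟩

/-- Base change of finite free syzygies, for a class `C` of modules on which tensoring is exact. -/
theorem FPk.baseChange_of (C : ∀ (M : Type u) [AddCommGroup M] [Module A M], Prop)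
    (hC : ∀ (n : ℕ) (M : Type u) [AddCommGroup M] [Module A M] (f : (Fin n → A) →ₗ[A] M),
      Function.Surjective f → C M → C (LinearMap.ker f) ∧
        Function.Injective ((LinearMap.ker f).subtype.baseChange A')) :
    ∀ {k : ℕ} {M : Type u} [AddCommGroup M] [Module A M],
      FPk A k M → C M → FPk A' k (A' ⊗[A] M)
  | 0, M, _, _, h, _ => by
    haveI : Module.Finite A M := h
    exact (inferInstance : Module.Finite A' (A' ⊗[A] M))
  | k + 1, M, _, _, ⟨n, f, hf, hK⟩, hM => by
    obtain ⟨hCK, hinj⟩ := hC n M f hf hM
    refine FPk.succ_of_surjective (TensorProduct.piScalarRight A A' A' (Fin n)).symm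
      (f.baseChange A') (LinearMap.lTensor_surjective A' hf) ?_
    exact (FPk.baseChange_of C hC hK hCK).of_equiv (kerBaseChangeEquiv A' f hf hinj)

/-- Flat base change. -/
theorem FPk.baseChange [Module.Flat A A'] {k : ℕ} {M : Type u} [AddCommGroup M] [Module A M]
    (h : FPk A k M) : FPk A' k (A' ⊗[A] M) :=
  FPk.baseChange_of (A := A) A' (fun _ => True) (fun _ _ _ _ f _ _ =>
    ⟨trivial, Module.Flat.lTensor_preserves_injective_linearMap _ (LinearMap.ker f).subtype_injective⟩)
    h trivial

theorem FPInf.baseChange [Module.Flat A A'] {M : Type u} [AddCommGroup M] [Module A M]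
    (h : FPInf A M) : FPInf A' (A' ⊗[A] M) := fun k => (h k).baseChange A'

end

section Pushout

/-- Base change of a module flat over `A₀` along the pushout of `A₀ → B₀`, where `A` is `A₀`-flat. -/
theorem FPk.baseChange_of_flat (A₀ B₀ : Type u) [CommRing A₀] [CommRing B₀] [Algebra A₀ A]
    [Algebra A₀ B₀] (A' : Type u) [CommRing A'] [Algebra A A'] [Algebra B₀ A'] [Algebra A₀ A']
    [IsScalarTower A₀ A A'] [IsScalarTower A₀ B₀ A'] [Algebra.IsPushout A₀ B₀ A A']
    [Module.Flat A₀ A] {k : ℕ} {M : Type u} [AddCommGroup M] [Module A M]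
    [hM₀ : Module A₀ M] [IsScalarTower A₀ A M] [Module.Flat A₀ M] (h : FPk A k M) :
    FPk A' k (A' ⊗[A] M) := by
  refine FPk.baseChange_of (A := A) A' (fun N => ∀ [Module A₀ N] [IsScalarTower A₀ A N], Module.Flat A₀ N)
    (fun n N _ _ f hf hN => ?_) h ?_
  · letI : Module A₀ N := Module.compHom N (algebraMap A₀ A)
    haveI : IsScalarTower A₀ A N := IsScalarTower.of_algebraMap_smul fun _ _ => rfl
    haveI : Module.Flat A₀ N := hN
    refine ⟨fun {_ _} => ?_, ?_⟩
    · rename_i m₁ m₂
      let g : LinearMap.ker f →ₗ[A₀] (Fin n → A) :=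
        { toFun := fun a => a.1
          map_add' := fun _ _ => rfl
          map_smul' := fun c a => by
            simp only [RingHom.id_apply]
            exact (congrArg Subtype.val (@IsScalarTower.algebraMap_smul A₀ A (LinearMap.ker f)
              _ _ _ _ m₁.toDistribMulAction.toDistribSMul.toSMul m₂ c a)).symm.trans (IsScalarTower.algebraMap_smul A c a.1) }
      haveI : Module.Flat A₀ (Fin n → A) :=
        Module.Flat.trans A₀ A (Fin n → A)
      exact flat_of_exact g (f.restrictScalars A₀) Subtype.val_injective
        (fun z => (LinearMap.exact_subtype_ker_map f) z) hf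
    · let cK := Algebra.IsPushout.cancelBaseChange A₀ B₀ A A' (LinearMap.ker f)
      let cF := Algebra.IsPushout.cancelBaseChange A₀ B₀ A A' (Fin n → A)
      have hcomm : ∀ z, (LinearMap.ker f).subtype.baseChange A' (cK.symm z) =
          cF.symm (((LinearMap.ker f).subtype.restrictScalars A₀).lTensor B₀ z) := by
        intro z
        induction z using TensorProduct.induction_on with
        | zero => simp only [map_zero]
        | tmul b x => simp [cK, cF]
        | add x y hx hy => simp only [map_add, hx, hy]
      intro z w hzw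
      obtain ⟨z, rfl⟩ := cK.symm.surjective z
      obtain ⟨w, rfl⟩ := cK.symm.surjective w
      rw [hcomm, hcomm] at hzw
      exact congrArg _ (LinearMap.lTensor_injective_of_exact_of_flat (f.restrictScalars A₀) hf
        ((LinearMap.ker f).subtype.restrictScalars A₀) Subtype.val_injective
        (LinearMap.exact_subtype_ker_map f) B₀ (cF.symm.injective hzw))
  · intro m₁ m₂
    have hm : m₁ = hM₀ := Module.ext' _ _ fun r x =>
      (@IsScalarTower.algebraMap_smul A₀ A M _ _ _ _ m₁.toDistribMulAction.toDistribSMul.toSMul m₂ r x).symm.trans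
        (@IsScalarTower.algebraMap_smul A₀ A M _ _ _ _ hM₀.toDistribMulAction.toDistribSMul.toSMul (by assumption) r x)
    subst hm
    assumption

end Pushout

/-- Descent along a family of flat algebras detecting finiteness. -/
theorem FPk.descent {ι : Type*} (A' : ι → Type u) [∀ i, CommRing (A' i)] [∀ i, Algebra A (A' i)]
    [∀ i, Module.Flat A (A' i)]
    (hfin : ∀ (N : Type u) [AddCommGroup N] [Module A N],
      (∀ i, Module.Finite (A' i) (A' i ⊗[A] N)) → Module.Finite A N) :
    ∀ {k : ℕ} {M : Type u} [AddCommGroup M] [Module A M],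
      (∀ i, FPk (A' i) k (A' i ⊗[A] M)) → FPk A k M
  | 0, M, _, _, h => hfin M h
  | k + 1, M, _, _, h => by
    haveI := hfin M fun i => (h i).finite
    obtain ⟨n, f, hf⟩ := Module.Finite.exists_fin' A M
    refine ⟨n, f, hf, FPk.descent A' hfin fun i => ?_⟩
    exact (FPk.ker_of_succ (f.baseChange (A' i)) (LinearMap.lTensor_surjective _ hf)
      ((fpk_pi n k).baseChange (A' i)) (h i)).of_equiv (kerBaseChangeEquiv (A' i) f hf
        (Module.Flat.lTensor_preserves_injective_linearMap _ (LinearMap.ker f).subtype_injective)).symm

/-- Faithfully flat descent. -/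
theorem FPk.of_faithfullyFlat (A' : Type u) [CommRing A'] [Algebra A A'] [Module.FaithfullyFlat A A']
    {k : ℕ} {M : Type u} [AddCommGroup M] [Module A M] (h : FPk A' k (A' ⊗[A] M)) : FPk A k M :=
  FPk.descent (fun _ : Unit => A') (fun N _ _ hN => by
    haveI := hN ()
    exact Module.Finite.of_finite_tensorProduct_of_faithfullyFlat A') fun _ => h

/-- The property can be tested on a covering by basic localisations. -/
theorem FPk.of_span (s : Set A) (hs : Ideal.span s = ⊤) {k : ℕ} {M : Type u} [AddCommGroup M]
    [Module A M] (h : ∀ g ∈ s, FPk (Localization.Away g) k (Localization.Away g ⊗[A] M)) :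
    FPk A k M :=
  FPk.descent (fun g : s => Localization.Away (g : A)) (fun N _ _ hN =>
    Module.Finite.of_localizationSpan' s hs
      (Rₚ := fun g : s => Localization.Away (g : A))
      (fun g : s => TensorProduct.mk A (Localization.Away (g : A)) N 1) hN)
    fun g => h g.1 g.2

theorem FPInf.of_span (s : Set A) (hs : Ideal.span s = ⊤) {M : Type u} [AddCommGroup M] [Module A M]
    (h : ∀ g ∈ s, FPInf (Localization.Away g) (Localization.Away g ⊗[A] M)) : FPInf A M :=
  fun k => FPk.of_span s hs fun g hg => h g hg k

end Groth.Agent.H8Props.PseudoCoh
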