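import Groth.Prelude.Def_DRing2
import Groth.Agent.H1CAlg.Tor
import Groth.Agent.H3CAlg.TorBasic
import Groth.Agent.H8Props.PseudoCoh.BaseChange
import Mathlib.RingTheory.Flat.FaithfullyFlat.Basic

/-!
# Tor dimension of modules

Syzygy description of `DRing.HasTorDimLE`, and its behaviour under change of rings.
-/

set_option autoImplicit false
set_option linter.style.haveILetI false
universe u

open CategoryTheory CategoryTheory.Limits MonoidalCategory TensorProduct

namespace Groth.Agent.H8Props.PseudoCoh

variable {A : Type u} [CommRing A]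

theorem hasTorDimLE_iff_isZero {n : ℕ} {M : Type u} [AddCommGroup M] [Module A M] :
    DRing.HasTorDimLE A n M ↔ ∀ (N : ModuleCat.{u} A) (p : ℕ), n < p →
      IsZero (((CategoryTheory.Tor (ModuleCat.{u} A) p).obj (ModuleCat.of A M)).obj N) :=
  ⟨fun h N p hp => ModuleCat.isZero_iff_subsingleton.mpr (h N p hp),
    fun h N _ _ p hp => ModuleCat.isZero_iff_subsingleton.mp (h (ModuleCat.of A N) p hp)⟩

theorem hasTorDimLE_of_equiv {n : ℕ} {M M' : Type u} [AddCommGroup M] [Module A M] [AddCommGroup M']
    [Module A M'] (e : M ≃ₗ[A] M') (h : DRing.HasTorDimLE A n M) : DRing.HasTorDimLE A n M' :=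
  hasTorDimLE_iff_isZero.mpr fun N p hp => (hasTorDimLE_iff_isZero.mp h N p hp).of_iso
    ((((CategoryTheory.Tor (ModuleCat.{u} A) p).mapIso e.toModuleIso).app N).symm)

theorem hasTorDimLE_mono {n m : ℕ} (hnm : n ≤ m) {M : Type u} [AddCommGroup M] [Module A M]
    (h : DRing.HasTorDimLE A n M) : DRing.HasTorDimLE A m M := fun N _ _ p hp => h N p (by omega)

theorem hasTorDimLE_of_flat (n : ℕ) (M : Type u) [AddCommGroup M] [Module A M] [Module.Flat A M] :
    DRing.HasTorDimLE A n M :=
  hasTorDimLE_iff_isZero.mpr fun N p hp => by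
    obtain ⟨i, rfl⟩ := Nat.exists_eq_succ_of_ne_zero (by omega : p ≠ 0)
    exact H1CAlg.isZero_Tor_of_flat (ModuleCat.of A M) N i

theorem hasTorDimLE_zero_iff {M : Type u} [AddCommGroup M] [Module A M] :
    DRing.HasTorDimLE A 0 M ↔ Module.Flat A M := by
  refine ⟨fun h => Module.Flat.iff_lTensor_injective'.mpr fun I => ?_, fun h => hasTorDimLE_of_flat 0 M⟩
  let S : ShortComplex (ModuleCat.{u} A) :=
    ShortComplex.mk (ModuleCat.ofHom I.subtype) (ModuleCat.ofHom (Submodule.mkQ I)) (by
      ext x
      exact (Submodule.Quotient.mk_eq_zero I).mpr x.2)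
  have hS : S.ShortExact :=
    { exact := (ShortComplex.moduleCat_exact_iff_range_eq_ker _).mpr
        ((Submodule.range_subtype I).trans (Submodule.ker_mkQ I).symm)
      mono_f := (ModuleCat.mono_iff_injective _).mpr Subtype.val_injective
      epi_g := (ModuleCat.epi_iff_surjective _).mpr (Submodule.Quotient.mk_surjective _) }
  haveI : Projective S.X₂ := ModuleCat.projective_of_categoryTheory_projective (ModuleCat.of A A)
  exact (H3CAlg.Tor.isZero_one_iff_injective (ModuleCat.of A M) S hS).mp
    (hasTorDimLE_iff_isZero.mp h _ 1 one_pos)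

attribute [local irreducible] DRing.HasTorDimLE

section ShortExact

variable {M' M M'' : Type u} [AddCommGroup M'] [Module A M'] [AddCommGroup M] [Module A M]
  [AddCommGroup M''] [Module A M''] {i : M' →ₗ[A] M} {p : M →ₗ[A] M''}

/-- The short complex of an exact sequence. -/
noncomputable abbrev seq (he : Function.Exact i p) : ShortComplex (ModuleCat.{u} A) :=
  ShortComplex.mk (ModuleCat.ofHom i) (ModuleCat.ofHom p) (by ext x; exact he.apply_apply_eq_zero x)

theorem seq_shortExact (hi : Function.Injective i) (hp : Function.Surjective p)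
    (he : Function.Exact i p) : (seq he).ShortExact where
  exact := (ShortComplex.moduleCat_exact_iff_range_eq_ker _).mpr (LinearMap.exact_iff.mp he).symm
  mono_f := (ModuleCat.mono_iff_injective _).mpr hi
  epi_g := (ModuleCat.epi_iff_surjective _).mpr hp

theorem hasTorDimLE_ext (hi : Function.Injective i) (hp : Function.Surjective p)
    (he : Function.Exact i p) {n : ℕ} (h' : DRing.HasTorDimLE A n M')
    (h'' : DRing.HasTorDimLE A n M'') : DRing.HasTorDimLE A n M :=
  hasTorDimLE_iff_isZero.mpr fun N q hq =>
    H3CAlg.Tor.isZero_obj_X₂ N (seq he) (seq_shortExact hi hp he) q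
      (hasTorDimLE_iff_isZero.mp h' N q hq) (hasTorDimLE_iff_isZero.mp h'' N q hq)

theorem hasTorDimLE_sub (hi : Function.Injective i) (hp : Function.Surjective p)
    (he : Function.Exact i p) {n : ℕ} (h : DRing.HasTorDimLE A n M)
    (h'' : DRing.HasTorDimLE A (n + 1) M'') : DRing.HasTorDimLE A n M' :=
  hasTorDimLE_iff_isZero.mpr fun N q hq => by
    obtain ⟨-, -, δ, w₁, w₂, -, ex⟩ := H3CAlg.Tor.les₁ N (seq he) (seq_shortExact hi hp he) q
    exact ex.isZero_X₂ ((hasTorDimLE_iff_isZero.mp h'' N (q + 1) (by omega)).eq_of_src _ _)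
      ((hasTorDimLE_iff_isZero.mp h N q hq).eq_of_tgt _ _)

theorem hasTorDimLE_quot (hi : Function.Injective i) (hp : Function.Surjective p)
    (he : Function.Exact i p) {n : ℕ} (h : DRing.HasTorDimLE A (n + 1) M)
    (h' : DRing.HasTorDimLE A n M') : DRing.HasTorDimLE A (n + 1) M'' :=
  hasTorDimLE_iff_isZero.mpr fun N q hq => by
    obtain ⟨q, rfl⟩ := Nat.exists_eq_succ_of_ne_zero (by omega : q ≠ 0)
    obtain ⟨-, -, δ, w₁, w₂, ex, -⟩ := H3CAlg.Tor.les₁ N (seq he) (seq_shortExact hi hp he) q
    exact ex.isZero_X₂ ((hasTorDimLE_iff_isZero.mp h N (q + 1) (by omega)).eq_of_src _ _)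
      ((hasTorDimLE_iff_isZero.mp h' N q (by omega)).eq_of_tgt _ _)

end ShortExact

theorem hasTorDimLE_succ_iff {n : ℕ} {M F : Type u} [AddCommGroup M] [Module A M] [AddCommGroup F]
    [Module A F] [Module.Flat A F] (f : F →ₗ[A] M) (hf : Function.Surjective f) :
    DRing.HasTorDimLE A (n + 1) M ↔ DRing.HasTorDimLE A n (LinearMap.ker f) :=
  ⟨fun h => hasTorDimLE_sub Subtype.val_injective hf (LinearMap.exact_subtype_ker_map f)
      (hasTorDimLE_of_flat n F) h,
    fun h => hasTorDimLE_quot Subtype.val_injective hf (LinearMap.exact_subtype_ker_map f)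
      (hasTorDimLE_of_flat (n + 1) F) h⟩

theorem exists_free_surjective (M : Type u) [AddCommGroup M] [Module A M] :
    Function.Surjective (Finsupp.linearCombination A (id : M → M)) :=
  Finsupp.linearCombination_surjective _ Function.surjective_id

section ChangeOfRing

variable {B : Type u} [CommRing B] [Algebra A B]

/-- Restriction along a flat algebra. -/
theorem hasTorDimLE_restrictScalars [Module.Flat A B] : ∀ {n : ℕ} {M : Type u} [AddCommGroup M]
    [Module B M] [Module A M] [IsScalarTower A B M], DRing.HasTorDimLE B n M → DRing.HasTorDimLE A n M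
  | 0, M, _, _, _, _, h => by
    haveI := hasTorDimLE_zero_iff.mp h
    exact hasTorDimLE_zero_iff.mpr (Module.Flat.trans A B M)
  | n + 1, M, _, _, _, _, h => by
    let f := Finsupp.linearCombination B (id : M → M)
    haveI : Module.Flat A (M →₀ B) := Module.Flat.trans A B _
    have hf : Function.Surjective f := exists_free_surjective (A := B) M
    have hK : DRing.HasTorDimLE A n (LinearMap.ker f) :=
      hasTorDimLE_restrictScalars ((hasTorDimLE_succ_iff f hf).mp h)
    exact hasTorDimLE_quot (i := (LinearMap.ker f).subtype.restrictScalars A)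
      (p := f.restrictScalars A) Subtype.val_injective hf (LinearMap.exact_subtype_ker_map f)
      (hasTorDimLE_of_flat (n + 1) (M →₀ B)) hK

/-- Flat base change. -/
theorem hasTorDimLE_baseChange [Module.Flat A B] : ∀ {n : ℕ} {M : Type u} [AddCommGroup M]
    [Module A M], DRing.HasTorDimLE A n M → DRing.HasTorDimLE B n (B ⊗[A] M)
  | 0, M, _, _, h => by
    haveI := hasTorDimLE_zero_iff.mp h
    exact hasTorDimLE_zero_iff.mpr inferInstance
  | n + 1, M, _, _, h => by
    let f := Finsupp.linearCombination A (id : M → M)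
    have hf : Function.Surjective f := exists_free_surjective (A := A) M
    have hK : DRing.HasTorDimLE A n (LinearMap.ker f) := (hasTorDimLE_succ_iff f hf).mp h
    have hK' : DRing.HasTorDimLE B n (B ⊗[A] LinearMap.ker f) :=
      hasTorDimLE_baseChange (M := LinearMap.ker f) hK
    refine (hasTorDimLE_succ_iff (f.baseChange B) (LinearMap.lTensor_surjective B hf)).mpr ?_
    exact hasTorDimLE_of_equiv (kerBaseChangeEquiv B f hf
      (Module.Flat.lTensor_preserves_injective_linearMap _ (LinearMap.ker f).subtype_injective)) hK'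

/-- Descent along a family of flat algebras detecting flatness. -/
theorem hasTorDimLE_descent {ι : Type*} (A' : ι → Type u) [∀ i, CommRing (A' i)]
    [∀ i, Algebra A (A' i)] [∀ i, Module.Flat A (A' i)]
    (hflat : ∀ (N : Type u) [AddCommGroup N] [Module A N],
      (∀ i, Module.Flat (A' i) (A' i ⊗[A] N)) → Module.Flat A N) :
    ∀ {n : ℕ} {M : Type u} [AddCommGroup M] [Module A M],
      (∀ i, DRing.HasTorDimLE (A' i) n (A' i ⊗[A] M)) → DRing.HasTorDimLE A n M
  | 0, M, _, _, h => hasTorDimLE_zero_iff.mpr (hflat M fun i => hasTorDimLE_zero_iff.mp (h i))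
  | n + 1, M, _, _, h => by
    let f := Finsupp.linearCombination A (id : M → M)
    refine (hasTorDimLE_succ_iff f (exists_free_surjective M)).mpr
      (hasTorDimLE_descent A' hflat fun i => ?_)
    exact hasTorDimLE_of_equiv (kerBaseChangeEquiv (A' i) f (exists_free_surjective M)
      (Module.Flat.lTensor_preserves_injective_linearMap _ (LinearMap.ker f).subtype_injective)).symm
      ((hasTorDimLE_succ_iff (f.baseChange (A' i))
        (LinearMap.lTensor_surjective _ (exists_free_surjective M))).mp (h i))

theorem hasTorDimLE_of_faithfullyFlat [Module.FaithfullyFlat A B] {n : ℕ} {M : Type u}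
    [AddCommGroup M] [Module A M] (h : DRing.HasTorDimLE B n (B ⊗[A] M)) : DRing.HasTorDimLE A n M :=
  hasTorDimLE_descent (fun _ : Unit => B) (fun N _ _ hN => by
    haveI := hN ()
    exact Module.Flat.of_flat_tensorProduct A N B) fun _ => h

/-- `Tor_p^A(M, N) = 0` for a `B`-module `M` is exactness of `M ⊗_B` a fixed complex of `B`-modules. -/
theorem exact_tensor_cancel {M : Type u} [AddCommGroup M] [Module B M] [Module A M]
    [IsScalarTower A B M] {X Y Z : Type u} [AddCommGroup X] [Module A X] [AddCommGroup Y] [Module A Y]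
    [AddCommGroup Z] [Module A Z] (d₂ : X →ₗ[A] Y) (d₁ : Y →ₗ[A] Z) :
    Function.Exact (d₂.lTensor M) (d₁.lTensor M) ↔
      Function.Exact ((d₂.baseChange B).lTensor M) ((d₁.baseChange B).lTensor M) := by
  let cX := AlgebraTensorModule.cancelBaseChange A B B M X
  let cY := AlgebraTensorModule.cancelBaseChange A B B M Y
  let cZ := AlgebraTensorModule.cancelBaseChange A B B M Z
  have hc : ∀ {X Y : Type u} [AddCommGroup X] [Module A X] [AddCommGroup Y] [Module A Y]
      (d : X →ₗ[A] Y) (z : M ⊗[B] (B ⊗[A] X)),
      d.lTensor M (AlgebraTensorModule.cancelBaseChange A B B M X z) =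
        AlgebraTensorModule.cancelBaseChange A B B M Y ((d.baseChange B).lTensor M z) := by
    intro X Y _ _ _ _ d z
    induction z using TensorProduct.induction_on with
    | zero => simp only [map_zero]
    | tmul m w =>
      induction w using TensorProduct.induction_on with
      | zero => simp only [TensorProduct.tmul_zero, map_zero]
      | tmul b x => simp
      | add x y hx hy => simp only [TensorProduct.tmul_add, map_add, hx, hy]
    | add x y hx hy => simp only [map_add, hx, hy]
  constructor
  · intro h y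
    rw [← cZ.map_eq_zero_iff, ← hc, h (cY y)]
    constructor
    · rintro ⟨w, hw⟩
      obtain ⟨w, rfl⟩ := cX.surjective w
      rw [hc] at hw
      exact ⟨w, cY.injective hw⟩
    · rintro ⟨w, rfl⟩
      exact ⟨cX w, hc d₂ w⟩
  · intro h y
    obtain ⟨y, rfl⟩ := cY.surjective y
    rw [hc, cZ.map_eq_zero_iff, h y]
    constructor
    · rintro ⟨w, rfl⟩
      exact ⟨cX w, hc d₂ w⟩
    · rintro ⟨w, hw⟩
      obtain ⟨w, rfl⟩ := cX.surjective w
      rw [hc] at hw
      exact ⟨w, cY.injective hw⟩

attribute [local semireducible] DRing.HasTorDimLE in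
/-- Vanishing of `Tor` as exactness. -/
theorem isZero_tor_iff_exact {M : Type u} [AddCommGroup M] [Module A M] (N : ModuleCat.{u} A) (i : ℕ) :
    IsZero (((CategoryTheory.Tor (ModuleCat.{u} A) (i + 1)).obj (ModuleCat.of A M)).obj N) ↔
      Function.Exact (((projectiveResolution N).complex.d (i + 2) (i + 1)).hom.lTensor M)
        (((projectiveResolution N).complex.d (i + 1) i).hom.lTensor M) := by
  let F := (tensoringLeft (ModuleCat.{u} A)).obj (ModuleCat.of A M)
  refine (Iso.isZero_iff ((projectiveResolution N).isoLeftDerivedObj F (i + 1))).trans ?_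
  refine (HomologicalComplex.exactAt_iff_isZero_homology _ _).symm.trans ?_
  rw [HomologicalComplex.exactAt_iff' _ (i + 2) (i + 1) i (by simp) (by simp),
    ShortComplex.moduleCat_exact_iff_range_eq_ker]
  exact ⟨fun h => LinearMap.exact_iff.mpr h.symm, fun h => (LinearMap.exact_iff.mp h).symm⟩

/-- A flat module over an algebra has at most the tor dimension of the algebra. -/
theorem hasTorDimLE_of_flat_algebra {n : ℕ} (hB : DRing.HasTorDimLE A n B) (M : Type u)
    [AddCommGroup M] [Module B M] [Module A M] [IsScalarTower A B M] [Module.Flat B M] :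
    DRing.HasTorDimLE A n M := by
  refine hasTorDimLE_iff_isZero.mpr fun N q hq => ?_
  obtain ⟨i, rfl⟩ := Nat.exists_eq_succ_of_ne_zero (by omega : q ≠ 0)
  have hB' := (isZero_tor_iff_exact N i).mp (hasTorDimLE_iff_isZero.mp hB N (i + 1) hq)
  refine (isZero_tor_iff_exact N i).mpr ((exact_tensor_cancel (B := B) _ _).mpr ?_)
  exact Module.Flat.lTensor_exact M
    (f := ((projectiveResolution N).complex.d (i + 2) (i + 1)).hom.baseChange B)
    (g := ((projectiveResolution N).complex.d (i + 1) i).hom.baseChange B) hB'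

/-- The converse for a faithfully flat module. -/
theorem hasTorDimLE_algebra_of_faithfullyFlat {n : ℕ} (M : Type u) [AddCommGroup M] [Module B M]
    [Module A M] [IsScalarTower A B M] [Module.FaithfullyFlat B M]
    (hM : DRing.HasTorDimLE A n M) : DRing.HasTorDimLE A n B := by
  refine hasTorDimLE_iff_isZero.mpr fun N q hq => ?_
  obtain ⟨i, rfl⟩ := Nat.exists_eq_succ_of_ne_zero (by omega : q ≠ 0)
  have hM' := (exact_tensor_cancel (B := B) _ _).mp
    ((isZero_tor_iff_exact N i).mp (hasTorDimLE_iff_isZero.mp hM N (i + 1) hq))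
  refine (isZero_tor_iff_exact N i).mpr ?_
  exact Module.FaithfullyFlat.lTensor_reflects_exact B M
    (((projectiveResolution N).complex.d (i + 2) (i + 1)).hom.baseChange B)
    (((projectiveResolution N).complex.d (i + 1) i).hom.baseChange B) hM'

/-- Tor dimensions add along an algebra. -/
theorem hasTorDimLE_trans {d : ℕ} (hB : DRing.HasTorDimLE A d B) :
    ∀ {n : ℕ} {M : Type u} [AddCommGroup M] [Module B M] [Module A M] [IsScalarTower A B M],
      DRing.HasTorDimLE B n M → DRing.HasTorDimLE A (d + n) M
  | 0, M, _, _, _, _, h => by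
    haveI := hasTorDimLE_zero_iff.mp h
    exact hasTorDimLE_of_flat_algebra hB M
  | n + 1, M, _, _, _, _, h => by
    let f := Finsupp.linearCombination B (id : M → M)
    refine hasTorDimLE_quot (i := (LinearMap.ker f).subtype.restrictScalars A)
      (p := f.restrictScalars A) Subtype.val_injective (exists_free_surjective M)
      (LinearMap.exact_subtype_ker_map f)
      (hasTorDimLE_mono (Nat.le_add_right d (n + 1)) (hasTorDimLE_of_flat_algebra hB (M →₀ B)))
      (hasTorDimLE_trans hB ((hasTorDimLE_succ_iff f (exists_free_surjective M)).mp h))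

end ChangeOfRing

end Groth.Agent.H8Props.PseudoCoh
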