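import Groth.Agent.H8Props.PseudoCoh.Bridge
import Groth.Agent.H8Props.PseudoCoh.TorDim
import Mathlib.RingTheory.Flat.EquationalCriterion

/-!
# Perfect modules

`M` is perfect iff it has finite free syzygies of all orders and finite tor dimension.
-/

set_option autoImplicit false
set_option linter.style.haveILetI false
universe u

open CategoryTheory CategoryTheory.Limits

namespace Groth.Agent.H8Props.PseudoCoh

attribute [local instance] HasDerivedCategory.standard

variable {A : Type u} [CommRing A]

theorem projective_of_flat_of_fpInf {M : Type u} [AddCommGroup M] [Module A M] [Module.Flat A M]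
    (h : FPInf A M) : Module.Projective A M :=
  haveI := h.finitePresentation
  Module.Flat.projective_of_finitePresentation

section Resolution

namespace Syz

theorem exists_step (s : Syz A) : ∃ (P : ModuleCat.{u} A) (f : P →ₗ[A] s.N),
    Module.Finite A P ∧ Module.Projective A P ∧ Function.Surjective f ∧
      FPInf A (LinearMap.ker f) ∧ (Module.Projective A s.N → Function.Injective f) := by
  by_cases h : Module.Projective A s.N
  · refine ⟨s.N, LinearMap.id, (s.h 0).finite, h, Function.surjective_id, fun k => ?_,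
      fun _ => Function.injective_id⟩
    haveI : Subsingleton (LinearMap.ker (LinearMap.id : s.N →ₗ[A] s.N)) := by
      rw [LinearMap.ker_id]; infer_instance
    exact fpk_of_subsingleton k _
  · obtain ⟨n, f, hf, hK⟩ := s.h.exists_surjective
    exact ⟨ModuleCat.of A (Fin n → A), f, inferInstanceAs (Module.Finite A (Fin n → A)),
      inferInstanceAs (Module.Projective A (Fin n → A)), hf, hK, fun h' => absurd h' h⟩

/-- The projective module chosen over a module. -/
noncomputable def pterm (s : Syz A) : ModuleCat.{u} A := s.exists_step.choose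

/-- The chosen surjection. -/
noncomputable def pmap (s : Syz A) : s.pterm →ₗ[A] s.N := s.exists_step.choose_spec.choose

theorem pspec (s : Syz A) : Module.Finite A s.pterm ∧ Module.Projective A s.pterm ∧
    Function.Surjective s.pmap ∧ FPInf A (LinearMap.ker s.pmap) ∧
      (Module.Projective A s.N → Function.Injective s.pmap) :=
  s.exists_step.choose_spec.choose_spec

/-- The next syzygy. -/
noncomputable def pnext (s : Syz A) : Syz A :=
  ⟨ModuleCat.of A (LinearMap.ker s.pmap), s.pspec.2.2.2.1⟩

/-- The syzygies. -/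
noncomputable def piter (s : Syz A) : ℕ → Syz A
  | 0 => s
  | j + 1 => (s.piter j).pnext

/-- The differentials. -/
noncomputable def pd (s : Syz A) (j : ℕ) : (s.piter (j + 1)).pterm ⟶ (s.piter j).pterm :=
  ModuleCat.ofHom ((LinearMap.ker (s.piter j).pmap).subtype ∘ₗ (s.piter (j + 1)).pmap)

theorem pd_comp_pd (s : Syz A) (j : ℕ) : s.pd (j + 1) ≫ s.pd j = 0 := by
  refine ModuleCat.hom_ext (LinearMap.ext fun x => ?_)
  show ((LinearMap.ker (s.piter j).pmap).subtype
    ((s.piter (j + 1)).pmap ((LinearMap.ker (s.piter (j + 1)).pmap).subtype _))) = 0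
  exact congrArg Subtype.val ((s.piter (j + 1 + 1)).pmap x).2

/-- The resolution by finite projective modules. -/
noncomputable def pcomplex (s : Syz A) : ChainComplex (ModuleCat.{u} A) ℕ :=
  ChainComplex.of (fun j => (s.piter j).pterm) s.pd s.pd_comp_pd

theorem pcomplex_d (s : Syz A) (j : ℕ) : s.pcomplex.d (j + 1) j = s.pd j :=
  ChainComplex.of_d (fun j => (s.piter j).pterm) s.pd j

/-- The projective resolution. -/
noncomputable def presolution (s : Syz A) : ProjectiveResolution s.N where
  complex := s.pcomplex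
  projective n := by
    show Projective (s.piter n).pterm
    haveI := (s.piter n).pspec.2.1
    exact ModuleCat.projective_of_categoryTheory_projective _
  π := (ChainComplex.toSingle₀Equiv _ _).symm ⟨ModuleCat.ofHom (s.piter 0).pmap, by
    rw [show s.pcomplex.d 1 0 = s.pd 0 from s.pcomplex_d 0]
    refine ModuleCat.hom_ext (LinearMap.ext fun x => ?_)
    exact ((s.piter 1).pmap x).2⟩
  quasiIso := ⟨fun n => by
    cases n
    · rw [ChainComplex.quasiIsoAt₀_iff, ShortComplex.quasiIso_iff_of_zeros']
      · have hex : (ShortComplex.mk (s.pd 0) (ModuleCat.ofHom (s.piter 0).pmap) (by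
            refine ModuleCat.hom_ext (LinearMap.ext fun x => ?_)
            exact ((s.piter 1).pmap x).2)).Exact := by
          rw [ShortComplex.moduleCat_exact_iff]
          intro x hx
          obtain ⟨y, hy⟩ := (s.piter 1).pspec.2.2.1 ⟨x, hx⟩
          exact ⟨y, congrArg Subtype.val hy⟩
        refine (ShortComplex.exact_and_epi_g_iff_of_iso ?_).2
          ⟨hex, (ModuleCat.epi_iff_surjective _).mpr (s.piter 0).pspec.2.2.1⟩
        refine ShortComplex.isoMk (Iso.refl _) (Iso.refl _) (Iso.refl _) ?_ ?_
        · exact (Category.id_comp _).trans ((s.pcomplex_d 0).symm.trans (Category.comp_id _).symm)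
        · exact (Category.id_comp _).trans (Category.comp_id _).symm
      all_goals rfl
    · rename_i n
      rw [quasiIsoAt_iff_exactAt']
      · rw [HomologicalComplex.exactAt_iff' _ (n + 1 + 1) (n + 1) n (by simp) (by simp),
          ShortComplex.moduleCat_exact_iff]
        intro x hx
        change s.pcomplex.d (n + 1) n x = 0 at hx
        rw [s.pcomplex_d n] at hx
        obtain ⟨y, hy⟩ := (s.piter (n + 1 + 1)).pspec.2.2.1
          ⟨x, (Subtype.ext hx : (s.piter (n + 1)).pmap x = 0)⟩
        refine ⟨y, ?_⟩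
        change s.pcomplex.d (n + 1 + 1) (n + 1) y = x
        rw [s.pcomplex_d (n + 1)]
        exact congrArg Subtype.val hy
      · apply ChainComplex.exactAt_succ_single_obj⟩

theorem hasTorDimLE_piter (s : Syz A) : ∀ (j n : ℕ), DRing.HasTorDimLE A (n + j) s.N →
    DRing.HasTorDimLE A n (s.piter j).N
  | 0, _, h => h
  | j + 1, n, h => by
    haveI := (s.piter j).pspec.2.1
    exact (hasTorDimLE_succ_iff (s.piter j).pmap (s.piter j).pspec.2.2.1).mp
      (hasTorDimLE_piter s j (n + 1) (by rwa [Nat.add_right_comm]))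

theorem subsingleton_pterm (s : Syz A) (n : ℕ) (h : DRing.HasTorDimLE A n s.N) :
    ∀ k, Subsingleton (s.piter (n + 1 + k)).N ∧ Subsingleton (s.piter (n + 1 + k)).pterm := by
  have step : ∀ t : Syz A, Subsingleton t.N → Subsingleton t.pterm := fun t ht => by
    have hproj : Module.Projective A t.N := inferInstance
    exact (t.pspec.2.2.2.2 hproj).subsingleton
  have hN : ∀ t : Syz A, Module.Projective A t.N → Subsingleton t.pnext.N := fun t ht => by
    show Subsingleton (LinearMap.ker t.pmap)
    rw [LinearMap.ker_eq_bot.mpr (t.pspec.2.2.2.2 ht)]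
    infer_instance
  intro k
  induction k with
  | zero =>
    haveI := hasTorDimLE_zero_iff.mp (hasTorDimLE_piter s n 0 (by simpa using h))
    have h1 := hN (s.piter n) (projective_of_flat_of_fpInf (s.piter n).h)
    exact ⟨h1, step _ h1⟩
  | succ k ih =>
    have h1 := hN (s.piter (n + 1 + k)) (haveI := ih.1; inferInstance)
    exact ⟨h1, step _ h1⟩

end Syz

theorem isPerfectModule_of_fpInf {M : Type u} [AddCommGroup M] [Module A M] (h : FPInf A M) {n : ℕ}
    (hn : DRing.HasTorDimLE A n M) : DRing.IsPerfectModule A M := by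
  let s : Syz A := ⟨ModuleCat.of A M, h⟩
  let R := s.presolution
  refine ⟨R.cochainComplex, -n, 0, ?_, fun i => ?_, ⟨asIso (DerivedCategory.Q.map R.π') ≪≫
    ((DerivedCategory.singleFunctorIsoCompQ (ModuleCat.{u} A) 0).app (ModuleCat.of A M)).symm⟩⟩
  · rintro i (hi | hi)
    · obtain ⟨k, rfl⟩ : ∃ k : ℕ, i = -((n + 1 + k : ℕ) : ℤ) := ⟨(-i).toNat - (n + 1), by omega⟩
      haveI := (s.subsingleton_pterm n hn k).2
      have e : R.cochainComplex.X (-((n + 1 + k : ℕ) : ℤ)) ≅ (s.piter (n + 1 + k)).pterm :=
        R.cochainComplexXIso _ (n + 1 + k)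
      exact (ModuleCat.isZero_of_subsingleton _).of_iso e
    · exact CochainComplex.isZero_of_isStrictlyLE _ 0 i hi
  by_cases hi : i ≤ 0
  · obtain ⟨k, rfl⟩ := Int.exists_eq_neg_ofNat hi
    have e : R.cochainComplex.X (-k) ≅ (s.piter k).pterm := R.cochainComplexXIso (-k) k
    haveI := (s.piter k).pspec.1
    haveI := (s.piter k).pspec.2.1
    exact ⟨Module.Finite.equiv e.toLinearEquiv.symm, Module.Projective.of_equiv e.toLinearEquiv.symm⟩
  · have hz := CochainComplex.isZero_of_isStrictlyLE R.cochainComplex 0 i (by omega)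
    haveI := ModuleCat.subsingleton_of_isZero hz
    exact ⟨inferInstance, inferInstance⟩

end Resolution

section Backward

theorem fpInf_and_torDim_homology (E : DRing.Cx A) (a b : ℤ) (hab : DRing.VanishesOutside E a b)
    (hproj : DRing.TermwiseFiniteProjective E)
    (hex : ∀ i j k : ℤ, i + 1 = j → j + 1 = k → j ≠ 0 → (E.sc' i j k).Exact) :
    FPInf A (LinearMap.ker (E.d 0 1).hom ⧸
      (LinearMap.range (E.d (-1) 0).hom).submoduleOf (LinearMap.ker (E.d 0 1).hom)) ∧
    DRing.HasFiniteTorDim A (LinearMap.ker (E.d 0 1).hom ⧸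
      (LinearMap.range (E.d (-1) 0).hom).submoduleOf (LinearMap.ker (E.d 0 1).hom)) := by
  have hexact : ∀ i j k : ℤ, i + 1 = j → j + 1 = k → j ≠ 0 →
      LinearMap.ker (E.d j k).hom = LinearMap.range (E.d i j).hom := fun i j k h1 h2 h3 =>
    ((ShortComplex.moduleCat_exact_iff_range_eq_ker _).mp (hex i j k h1 h2 h3)).symm
  -- cycles in degrees `≥ 0`
  have hZ : ∀ (m : ℕ) (i : ℤ), 0 ≤ i → b < i + m → Module.Finite A (LinearMap.ker (E.d i (i + 1)).hom) ∧
      Module.Projective A (LinearMap.ker (E.d i (i + 1)).hom) := by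
    intro m
    induction m with
    | zero =>
      intro i _ hi
      haveI : Subsingleton (E.X i) :=
        ModuleCat.subsingleton_of_isZero (hab i (Or.inr (by simpa using hi)))
      exact ⟨inferInstance, inferInstance⟩
    | succ m ih =>
      intro i h0 hi
      obtain ⟨hf1, hp1⟩ := ih (i + 1) (by omega) (by push_cast at hi ⊢; omega)
      rw [hexact i (i + 1) (i + 1 + 1) rfl rfl (by omega)] at hf1 hp1
      obtain ⟨l, hl⟩ := Module.projective_lifting_property (E.d i (i + 1)).hom.rangeRestrict
        LinearMap.id (LinearMap.surjective_rangeRestrict _)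
      let r : E.X i →ₗ[A] LinearMap.ker (E.d i (i + 1)).hom :=
        (LinearMap.id - l ∘ₗ (E.d i (i + 1)).hom.rangeRestrict).codRestrict _ fun x => by
          have := congrArg Subtype.val (LinearMap.congr_fun hl ((E.d i (i + 1)).hom.rangeRestrict x))
          simp only [LinearMap.comp_apply, LinearMap.id_apply] at this
          simpa [LinearMap.mem_ker, sub_eq_zero] using this.symm
      have hr : ∀ z : LinearMap.ker (E.d i (i + 1)).hom, r z.1 = z := fun z => by
        refine Subtype.ext ?_
        have : (E.d i (i + 1)).hom.rangeRestrict z.1 = 0 := Subtype.ext z.2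
        simp [r, this]
      haveI := (hproj i).1
      haveI := (hproj i).2
      exact ⟨Module.Finite.of_surjective r fun z => ⟨z.1, hr z⟩,
        Module.Projective.of_split (LinearMap.ker (E.d i (i + 1)).hom).subtype r (LinearMap.ext hr)⟩
  -- boundaries in degrees `≤ 0`
  have hB : ∀ (m : ℕ) (i j : ℤ), i + 1 = j → j ≤ 0 → i < a + m →
      FPInf A (LinearMap.range (E.d i j).hom) ∧ DRing.HasTorDimLE A m (LinearMap.range (E.d i j).hom) := by
    intro m
    induction m with
    | zero =>
      intro i j _ _ hi
      haveI : Subsingleton (E.X i) :=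
        ModuleCat.subsingleton_of_isZero (hab i (Or.inl (by simpa using hi)))
      haveI : Subsingleton (LinearMap.range (E.d i j).hom) :=
        (LinearMap.surjective_rangeRestrict (E.d i j).hom).subsingleton
      exact ⟨fun k => fpk_of_subsingleton k _, hasTorDimLE_of_flat 0 _⟩
    | succ m ih =>
      intro i j hij hj hi
      obtain ⟨h1, h2⟩ := ih (i - 1) i (by omega) (by omega) (by push_cast at hi ⊢; omega)
      have he := LinearEquiv.ofEq _ _ (hexact (i - 1) i j (by omega) hij (by omega)).symm
      have hseq : Function.Exact (LinearMap.ker (E.d i j).hom).subtype (E.d i j).hom.rangeRestrict := by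
        rw [LinearMap.exact_iff, LinearMap.ker_rangeRestrict, Submodule.range_subtype]
      haveI := (hproj i).1
      haveI := (hproj i).2
      exact ⟨fun k => FPk.succ_imp (FPk.quot_succ _ _ Subtype.val_injective
          (LinearMap.surjective_rangeRestrict _) hseq (fpk_of_finite_projective (k + 1) _) ((h1 k).of_equiv he)),
        hasTorDimLE_quot Subtype.val_injective (LinearMap.surjective_rangeRestrict _) hseq
          (hasTorDimLE_of_flat (m + 1) _) (hasTorDimLE_of_equiv he h2)⟩
  obtain ⟨hf0, hp0⟩ : Module.Finite A (LinearMap.ker (E.d 0 1).hom) ∧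
      Module.Projective A (LinearMap.ker (E.d 0 1).hom) := hZ (b.toNat + 1) 0 le_rfl (by omega)
  obtain ⟨h1, h2⟩ := hB ((-a).toNat) (-1) 0 (by omega) le_rfl (by omega)
  have hle : LinearMap.range (E.d (-1) 0).hom ≤ LinearMap.ker (E.d 0 1).hom := by
    rintro _ ⟨x, rfl⟩
    exact congrArg (fun g => g.hom x) (E.d_comp_d (-1) 0 1)
  let e := (Submodule.submoduleOfEquivOfLe hle).symm
  exact ⟨fun k => FPk.succ_imp (FPk.quot_succ
      ((LinearMap.range (E.d (-1) 0).hom).submoduleOf (LinearMap.ker (E.d 0 1).hom)).subtype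
      (Submodule.mkQ _) Subtype.val_injective (Submodule.Quotient.mk_surjective _)
      (LinearMap.exact_subtype_mkQ _) (fpk_of_finite_projective (k + 1) _) ((h1 k).of_equiv e)),
    (-a).toNat + 1, hasTorDimLE_quot Subtype.val_injective (Submodule.Quotient.mk_surjective _)
      (LinearMap.exact_subtype_mkQ _) (hasTorDimLE_of_flat _ _) (hasTorDimLE_of_equiv e h2)⟩

theorem fpInf_and_torDim_of_isPerfectModule {M : Type u} [AddCommGroup M] [Module A M]
    (h : DRing.IsPerfectModule A M) : FPInf A M ∧ DRing.HasFiniteTorDim A M := by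
  obtain ⟨E, a, b, hab, hproj, ⟨e⟩⟩ := h
  let S := (CochainComplex.singleFunctor (ModuleCat.{u} A) 0).obj (ModuleCat.of A M)
  have iso : ∀ i : ℤ, E.homology i ≅ S.homology i := fun i =>
    ((DerivedCategory.homologyFunctorFactors (ModuleCat.{u} A) i).app E).symm ≪≫
      (DerivedCategory.homologyFunctor (ModuleCat.{u} A) i).mapIso
        (e ≪≫ (DerivedCategory.singleFunctorIsoCompQ (ModuleCat.{u} A) 0).app _) ≪≫
      (DerivedCategory.homologyFunctorFactors (ModuleCat.{u} A) i).app S
  have hex : ∀ i j k : ℤ, i + 1 = j → j + 1 = k → j ≠ 0 → (E.sc' i j k).Exact := by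
    intro i j k hij hjk hj
    rw [← HomologicalComplex.exactAt_iff' E i j k (by simp; omega) (by simp; omega),
      HomologicalComplex.exactAt_iff_isZero_homology]
    exact IsZero.of_iso ((HomologicalComplex.exactAt_single_obj (ComplexShape.up ℤ) 0 _ j hj).isZero_homology)
      (iso j)
  have e0 : E.homology 0 ≅ ModuleCat.of A M :=
    iso 0 ≪≫ HomologicalComplex.singleObjHomologySelfIso (ComplexShape.up ℤ) 0 (ModuleCat.of A M)
  let e1 := (E.homologyIsoSc' (-1) 0 1 (by simp) (by simp) ≪≫
    (E.sc' (-1) 0 1).moduleCatHomologyIso).symm ≪≫ e0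
  let eq := (Submodule.quotEquivOfEq ((LinearMap.range (E.d (-1) 0).hom).submoduleOf
      (LinearMap.ker (E.d 0 1).hom)) (LinearMap.range (E.sc' (-1) 0 1).moduleCatToCycles) (by
      ext z
      constructor
      · rintro ⟨x, hx⟩
        exact ⟨x, Subtype.ext hx⟩
      · rintro ⟨x, hx⟩
        exact ⟨x, congrArg Subtype.val hx⟩)).trans e1.toLinearEquiv
  obtain ⟨h1, n, h2⟩ := fpInf_and_torDim_homology E a b hab hproj hex
  exact ⟨fun k => (h1 k).of_equiv eq, n, hasTorDimLE_of_equiv eq h2⟩

/-- Perfect modules. -/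
theorem isPerfectModule_iff {M : Type u} [AddCommGroup M] [Module A M] :
    DRing.IsPerfectModule A M ↔ FPInf A M ∧ DRing.HasFiniteTorDim A M :=
  ⟨fpInf_and_torDim_of_isPerfectModule, fun ⟨h, _, hn⟩ => isPerfectModule_of_fpInf h hn⟩

end Backward

end Groth.Agent.H8Props.PseudoCoh
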