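import Groth.Agent.H8Props.PseudoCoh.Basic
import Groth.Prelude.Def_DRing2
import Mathlib.CategoryTheory.Abelian.Projective.Extend
import Mathlib.CategoryTheory.Abelian.Projective.Resolution
import Mathlib.Algebra.Homology.ShortComplex.ModuleCat
import Mathlib.Algebra.Homology.DerivedCategory.HomologySequence

/-!
# Pseudo-coherent modules and finite free syzygies

`M` is pseudo-coherent as an object of the derived category iff it has finite free syzygies of all
orders.
-/

set_option autoImplicit false
set_option linter.style.haveILetI false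
universe u

open CategoryTheory CategoryTheory.Limits

namespace Groth.Agent.H8Props.PseudoCoh

attribute [local instance] HasDerivedCategory.standard

variable {A : Type u} [CommRing A]

section Forward

variable (A) in
/-- A module with all finite free syzygies. -/
structure Syz where
  /-- the module -/
  N : ModuleCat.{u} A
  h : FPInf A N

namespace Syz

noncomputable def rank (s : Syz A) : ℕ := s.h.exists_surjective.choose

noncomputable def map (s : Syz A) : (Fin s.rank → A) →ₗ[A] s.N :=
  s.h.exists_surjective.choose_spec.choose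

theorem map_surjective (s : Syz A) : Function.Surjective s.map :=
  s.h.exists_surjective.choose_spec.choose_spec.1

noncomputable def next (s : Syz A) : Syz A :=
  ⟨ModuleCat.of A (LinearMap.ker s.map), s.h.exists_surjective.choose_spec.choose_spec.2⟩

noncomputable def iter (s : Syz A) : ℕ → Syz A
  | 0 => s
  | j + 1 => (s.iter j).next

/-- The terms of the resolution. -/
noncomputable abbrev X (s : Syz A) (j : ℕ) : ModuleCat.{u} A :=
  ModuleCat.of A (Fin (s.iter j).rank → A)

/-- The differentials of the resolution. -/
noncomputable def d (s : Syz A) (j : ℕ) : s.X (j + 1) ⟶ s.X j :=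
  ModuleCat.ofHom ((LinearMap.ker (s.iter j).map).subtype ∘ₗ (s.iter (j + 1)).map)

theorem d_comp_d (s : Syz A) (j : ℕ) : s.d (j + 1) ≫ s.d j = 0 := by
  refine ModuleCat.hom_ext (LinearMap.ext fun x => ?_)
  show ((LinearMap.ker (s.iter j).map).subtype
    ((s.iter (j + 1)).map ((LinearMap.ker (s.iter (j + 1)).map).subtype _))) = 0
  exact congrArg Subtype.val ((s.iter (j + 1 + 1)).map x).2

/-- The resolution by finite free modules. -/
noncomputable def complex (s : Syz A) : ChainComplex (ModuleCat.{u} A) ℕ :=
  ChainComplex.of s.X s.d s.d_comp_d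

theorem exact_at (s : Syz A) (j : ℕ) (x : s.X (j + 1)) (hx : s.d j x = 0) :
    ∃ y : s.X (j + 1 + 1), s.d (j + 1) y = x := by
  have hx' : (s.iter (j + 1)).map x = 0 := Subtype.ext hx
  obtain ⟨y, hy⟩ := (s.iter (j + 1 + 1)).map_surjective ⟨x, hx'⟩
  exact ⟨y, congrArg Subtype.val hy⟩

theorem complex_d (s : Syz A) (j : ℕ) : s.complex.d (j + 1) j = s.d j :=
  ChainComplex.of_d s.X s.d j

/-- The projective resolution. -/
noncomputable def resolution (s : Syz A) : ProjectiveResolution s.N where
  complex := s.complex
  projective n := by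
    show Projective (ModuleCat.of A (Fin (s.iter n).rank → A))
    exact ModuleCat.projective_of_categoryTheory_projective _
  π := (ChainComplex.toSingle₀Equiv _ _).symm ⟨ModuleCat.ofHom (s.iter 0).map, by
    rw [show s.complex.d 1 0 = s.d 0 from s.complex_d 0]
    refine ModuleCat.hom_ext (LinearMap.ext fun x => ?_)
    exact ((s.iter 1).map x).2⟩
  quasiIso := ⟨fun n => by
    cases n
    · rw [ChainComplex.quasiIsoAt₀_iff, ShortComplex.quasiIso_iff_of_zeros']
      · have hex : (ShortComplex.mk (s.d 0) (ModuleCat.ofHom (s.iter 0).map) (by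
            refine ModuleCat.hom_ext (LinearMap.ext fun x => ?_)
            exact ((s.iter 1).map x).2)).Exact := by
          rw [ShortComplex.moduleCat_exact_iff]
          intro x hx
          obtain ⟨y, hy⟩ := (s.iter 1).map_surjective ⟨x, hx⟩
          exact ⟨y, congrArg Subtype.val hy⟩
        refine (ShortComplex.exact_and_epi_g_iff_of_iso ?_).2
          ⟨hex, (ModuleCat.epi_iff_surjective _).mpr (s.iter 0).map_surjective⟩
        refine ShortComplex.isoMk (Iso.refl _) (Iso.refl _) (Iso.refl _) ?_ ?_
        · exact (Category.id_comp _).trans ((s.complex_d 0).symm.trans (Category.comp_id _).symm)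
        · exact (Category.id_comp _).trans (Category.comp_id _).symm
      all_goals rfl
    · rename_i n
      rw [quasiIsoAt_iff_exactAt']
      · rw [HomologicalComplex.exactAt_iff' _ (n + 1 + 1) (n + 1) n (by simp) (by simp),
          ShortComplex.moduleCat_exact_iff]
        intro x hx
        change s.complex.d (n + 1) n x = 0 at hx
        rw [s.complex_d n] at hx
        obtain ⟨y, hy⟩ := s.exact_at n x hx
        refine ⟨y, ?_⟩
        change s.complex.d (n + 1 + 1) (n + 1) y = x
        rw [s.complex_d (n + 1)]
        exact hy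
      · apply ChainComplex.exactAt_succ_single_obj⟩

end Syz

theorem isPseudoCoherentModule'_of_fpInf {M : Type u} [AddCommGroup M] [Module A M] (h : FPInf A M) :
    DRing.IsPseudoCoherentModule' A M := by
  let s : Syz A := ⟨ModuleCat.of A M, h⟩
  let R := s.resolution
  refine ⟨R.cochainComplex, 0, fun i hi => CochainComplex.isZero_of_isStrictlyLE _ 0 i hi,
    fun i => ?_, ⟨asIso (DerivedCategory.Q.map R.π') ≪≫
      ((DerivedCategory.singleFunctorIsoCompQ (ModuleCat.{u} A) 0).app (ModuleCat.of A M)).symm⟩⟩
  by_cases hi : i ≤ 0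
  · obtain ⟨k, rfl⟩ := Int.exists_eq_neg_ofNat hi
    have e : R.cochainComplex.X (-k) ≅ s.X k := R.cochainComplexXIso (-k) k
    exact ⟨Module.Finite.equiv e.toLinearEquiv.symm, Module.Free.of_equiv e.toLinearEquiv.symm⟩
  · have hz := CochainComplex.isZero_of_isStrictlyLE R.cochainComplex 0 i (by omega)
    haveI := ModuleCat.subsingleton_of_isZero hz
    exact ⟨inferInstance, inferInstance⟩

end Forward

section Backward

/-- The property for the homology of a complex which is bounded above, exact off degree `0` and has
finite free terms. -/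
theorem fpInf_homology (E : DRing.Cx A) (b : ℤ) (hb : DRing.VanishesAbove E b)
    (hfree : DRing.TermwiseFiniteFree E)
    (hex : ∀ i j k : ℤ, i + 1 = j → j + 1 = k → j ≠ 0 → (E.sc' i j k).Exact) :
    FPInf A (LinearMap.ker (E.d 0 1).hom ⧸
      (LinearMap.range (E.d (-1) 0).hom).submoduleOf (LinearMap.ker (E.d 0 1).hom)) := by
  have hX : ∀ i k, FPk A k (E.X i) := fun i k => by
    haveI := (hfree i).1
    haveI := (hfree i).2
    exact fpk_of_finite_projective k _
  let Z := fun i => LinearMap.ker (E.d i (i + 1)).hom
  have hexact : ∀ i j k : ℤ, i + 1 = j → j + 1 = k → j ≠ 0 →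
      LinearMap.ker (E.d j k).hom = LinearMap.range (E.d i j).hom := fun i j k h1 h2 h3 =>
    ((ShortComplex.moduleCat_exact_iff_range_eq_ker _).mp (hex i j k h1 h2 h3)).symm
  -- cycles in degrees `≥ 0`
  have hZ : ∀ (m : ℕ) (i : ℤ), 0 ≤ i → b < i + m → ∀ k, FPk A k (LinearMap.ker (E.d i (i + 1)).hom) := by
    intro m
    induction m with
    | zero =>
      intro i _ hi k
      haveI : Subsingleton (E.X i) := ModuleCat.subsingleton_of_isZero (hb i (by simpa using hi))
      exact fpk_of_subsingleton k _
    | succ m ih =>
      intro i h0 hi k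
      have h1 := ih (i + 1) (by omega) (by push_cast at hi ⊢; omega) (k + 1)
      have he := hexact i (i + 1) (i + 1 + 1) rfl rfl (by omega)
      refine FPk.sub (LinearMap.ker (E.d i (i + 1)).hom).subtype
        ((E.d i (i + 1)).hom.rangeRestrict) Subtype.val_injective
        (LinearMap.surjective_rangeRestrict _) ?_ (hX i k) (h1.of_equiv (LinearEquiv.ofEq _ _ he))
      rw [LinearMap.exact_iff, LinearMap.ker_rangeRestrict, Submodule.range_subtype]
  -- boundaries in degrees `≤ 0`
  have hB : ∀ (k : ℕ) (i j : ℤ), i + 1 = j → j ≤ 0 → FPk A k (LinearMap.range (E.d i j).hom) := by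
    intro k
    induction k with
    | zero =>
      intro i j _ _
      haveI := (hfree i).1
      show Module.Finite A _
      infer_instance
    | succ k ih =>
      intro i j hij hj
      refine FPk.quot_succ (LinearMap.ker (E.d i j).hom).subtype (E.d i j).hom.rangeRestrict
        Subtype.val_injective (LinearMap.surjective_rangeRestrict _) ?_ (hX i (k + 1)) ?_
      · rw [LinearMap.exact_iff, LinearMap.ker_rangeRestrict, Submodule.range_subtype]
      · exact (ih (i - 1) i (by omega) (by omega)).of_equiv
          (LinearEquiv.ofEq _ _ (hexact (i - 1) i j (by omega) hij (by omega)).symm)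
  intro k
  have hle : LinearMap.range (E.d (-1) 0).hom ≤ LinearMap.ker (E.d 0 1).hom := by
    rintro _ ⟨x, rfl⟩
    exact congrArg (fun g => g.hom x) (E.d_comp_d (-1) 0 1)
  refine FPk.succ_imp (FPk.quot_succ
    ((LinearMap.range (E.d (-1) 0).hom).submoduleOf (LinearMap.ker (E.d 0 1).hom)).subtype
    (Submodule.mkQ _) Subtype.val_injective (Submodule.Quotient.mk_surjective _) ?_
    (hZ (b.toNat + 1) 0 le_rfl (by omega) (k + 1))
    ((hB k (-1) 0 (by omega) le_rfl).of_equiv (Submodule.submoduleOfEquivOfLe hle).symm))
  exact LinearMap.exact_subtype_mkQ _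

theorem fpInf_of_isPseudoCoherentModule' {M : Type u} [AddCommGroup M] [Module A M]
    (h : DRing.IsPseudoCoherentModule' A M) : FPInf A M := by
  obtain ⟨E, b, hb, hfree, ⟨e⟩⟩ := h
  let S := (CochainComplex.singleFunctor (ModuleCat.{u} A) 0).obj (ModuleCat.of A M)
  have iso : ∀ i : ℤ, E.homology i ≅ S.homology i := fun i =>
    ((DerivedCategory.homologyFunctorFactors (ModuleCat.{u} A) i).app E).symm ≪≫
      (DerivedCategory.homologyFunctor (ModuleCat.{u} A) i).mapIso
        (e ≪≫ (DerivedCategory.singleFunctorIsoCompQ (ModuleCat.{u} A) 0).app _) ≪≫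
      (DerivedCategory.homologyFunctorFactors (ModuleCat.{u} A) i).app S
  have hex : ∀ i j k : ℤ, i + 1 = j → j + 1 = k → j ≠ 0 → (E.sc' i j k).Exact := by
    intro i j k hij hjk hj
    rw [← HomologicalComplex.exactAt_iff' E i j k (by simp; omega) (by simp; omega),
      HomologicalComplex.exactAt_iff_isZero_homology]
    exact IsZero.of_iso ((HomologicalComplex.exactAt_single_obj (ComplexShape.up ℤ) 0 _ j hj).isZero_homology)
      (iso j)
  have e0 : E.homology 0 ≅ ModuleCat.of A M :=
    iso 0 ≪≫ HomologicalComplex.singleObjHomologySelfIso (ComplexShape.up ℤ) 0 (ModuleCat.of A M)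
  let e1 := (E.homologyIsoSc' (-1) 0 1 (by simp) (by simp) ≪≫
    (E.sc' (-1) 0 1).moduleCatHomologyIso).symm ≪≫ e0
  intro k
  exact ((fpInf_homology E b hb hfree hex) k).of_equiv
    ((Submodule.quotEquivOfEq _ _ (by
      ext z
      constructor
      · rintro ⟨x, hx⟩
        exact ⟨x, Subtype.ext hx⟩
      · rintro ⟨x, hx⟩
        exact ⟨x, congrArg Subtype.val hx⟩)).trans
      e1.toLinearEquiv)

/-- Pseudo-coherence of a module is the existence of finite free syzygies of all orders. -/
theorem isPseudoCoherentModule'_iff {M : Type u} [AddCommGroup M] [Module A M] :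
    DRing.IsPseudoCoherentModule' A M ↔ FPInf A M :=
  ⟨fpInf_of_isPseudoCoherentModule', isPseudoCoherentModule'_of_fpInf⟩

end Backward

end Groth.Agent.H8Props.PseudoCoh
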