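import Groth.Agent.H8Props.PseudoCoh.BaseChange
import Groth.Agent.H8Props.PseudoCoh.Bridge
import Groth.Prelude.Def_MoreMor
import Mathlib.Algebra.MvPolynomial.Equiv
import Mathlib.RingTheory.TensorProduct.MvPolynomial
import Mathlib.RingTheory.AdjoinRoot
import Mathlib.RingTheory.Finiteness.Descent
import Mathlib.RingTheory.FinitePresentation

/-!
# Pseudo-coherent ring maps

`RFP f`: the target of `f` has finite free syzygies of all orders over the source. A pseudo-coherent
ring map is one with a presentation having this property; every presentation then has it. Composition,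
cancellation, flat base change, descent, localisation.
-/

set_option autoImplicit false
set_option linter.style.haveILetI false
universe u

open TensorProduct MvPolynomial

namespace Groth.Agent.H8Props.PseudoCoh

variable {R S T : Type u} [CommRing R] [CommRing S] [CommRing T]

/-- The target has finite free syzygies of all orders over the source. -/
def RFP (f : R →+* S) : Prop :=
  letI := f.toAlgebra
  FPInf R S

theorem rfp_algebraMap [Algebra R S] : RFP (algebraMap R S) ↔ FPInf R S := by
  unfold RFP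
  rw [toAlgebra_algebraMap]

theorem RFP.comp {f : R →+* S} {g : S →+* T} (hf : RFP f) (hg : RFP g) : RFP (g.comp f) := by
  let a₁ := f.toAlgebra
  let a₂ := g.toAlgebra
  let a₃ := (g.comp f).toAlgebra
  haveI : IsScalarTower R S T := IsScalarTower.of_algebraMap_eq fun _ => rfl
  exact (fpInf_restrictScalars_iff (hf : FPInf R S)).mpr hg

theorem RFP.of_comp {f : R →+* S} {g : S →+* T} (hf : RFP f) (hgf : RFP (g.comp f)) : RFP g := by
  let a₁ := f.toAlgebra
  let a₂ := g.toAlgebra
  let a₃ := (g.comp f).toAlgebra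
  haveI : IsScalarTower R S T := IsScalarTower.of_algebraMap_eq fun _ => rfl
  exact (fpInf_restrictScalars_iff (hf : FPInf R S)).mp hgf

theorem rfp_of_bijective (f : R →+* S) (hf : Function.Bijective f) : RFP f := by
  let a := f.toAlgebra
  let e := LinearEquiv.ofBijective (Algebra.linearMap R S) hf
  haveI : Module.Finite R S := Module.Finite.equiv e
  haveI : Module.Projective R S := Module.Projective.of_equiv e
  exact fpInf_of_finite_projective S

theorem rfp_ringEquiv {F : Type*} [EquivLike F R S] [RingEquivClass F R S] (e : F) :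
    RFP (RingHomClass.toRingHom e) :=
  rfp_of_bijective _ (EquivLike.bijective e)

/-- A surjection with kernel generated by a non-zero-divisor. -/
theorem rfp_of_span_singleton (f : R →+* S) (hf : Function.Surjective f) (r : R)
    (hr : r ∈ nonZeroDivisors R) (hker : RingHom.ker f = Ideal.span {r}) : RFP f := by
  let a := f.toAlgebra
  intro k
  refine FPk.succ_imp (FPk.quot_succ (LinearMap.mulLeft R r) (Algebra.linearMap R S)
    (fun x y h => ?_) hf ?_ (fpk_of_finite_projective (k + 1) R) (fpk_of_finite_projective k R))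
  · exact sub_eq_zero.mp (mul_left_mem_nonZeroDivisors_eq_zero_iff hr |>.mp
      (by rw [mul_sub]; exact sub_eq_zero.mpr h))
  · intro x
    show f x = 0 ↔ _
    rw [← RingHom.mem_ker, hker, Ideal.mem_span_singleton]
    exact ⟨fun ⟨c, hc⟩ => ⟨c, hc.symm⟩, fun ⟨c, hc⟩ => ⟨c, hc.symm⟩⟩

theorem rfp_polynomial_eval (r : R) : RFP (Polynomial.evalRingHom r) :=
  rfp_of_span_singleton _ (fun x => ⟨Polynomial.C x, by simp⟩) (Polynomial.X - Polynomial.C r)
    (Polynomial.monic_X_sub_C r).mem_nonZeroDivisors (Polynomial.ker_evalRingHom r)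

/-- Evaluation of finitely many variables. -/
theorem rfp_aeval_fin : ∀ (m : ℕ) (r : Fin m → R),
    RFP (MvPolynomial.aeval r : MvPolynomial (Fin m) R →ₐ[R] R).toRingHom
  | 0, r => by
    refine rfp_of_bijective _ ⟨fun x y h => ?_, fun x => ⟨MvPolynomial.C x, by simp⟩⟩
    rw [MvPolynomial.eq_C_of_isEmpty x, MvPolynomial.eq_C_of_isEmpty y] at h ⊢
    simpa using h
  | m + 1, r => by
    have h := ((rfp_ringEquiv (MvPolynomial.finSuccEquiv R m)).comp
      (rfp_polynomial_eval (MvPolynomial.C (r 0)))).comp (rfp_aeval_fin m fun i => r i.succ)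
    convert h using 1
    refine MvPolynomial.ringHom_ext (fun a => ?_) fun i => ?_
    · simp [MvPolynomial.finSuccEquiv_apply]
    · induction i using Fin.cases with
      | zero => simp [MvPolynomial.finSuccEquiv_X_zero]
      | succ j => simp [MvPolynomial.finSuccEquiv_X_succ]

theorem rfp_aeval {σ : Type u} [Finite σ] (r : σ → R) :
    RFP (MvPolynomial.aeval r : MvPolynomial σ R →ₐ[R] R).toRingHom := by
  obtain ⟨m, ⟨e⟩⟩ := Finite.exists_equiv_fin σ
  have h := (rfp_ringEquiv (MvPolynomial.renameEquiv R e)).comp (rfp_aeval_fin m (r ∘ e.symm))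
  convert h using 1
  exact MvPolynomial.ringHom_ext (fun a => by simp) (fun i => by simp)

section Presentation

variable {A B C : Type u} [CommRing A] [CommRing B] [CommRing C] [Algebra A B]

/-- The retraction killing the first block of variables by substitution. -/
theorem rfp_retract {σ τ : Type u} [Finite σ] (r : σ → MvPolynomial τ A) :
    RFP (MvPolynomial.aeval (Sum.elim r MvPolynomial.X) :
      MvPolynomial (σ ⊕ τ) A →ₐ[A] MvPolynomial τ A).toRingHom := by
  have h := (rfp_ringEquiv (MvPolynomial.sumAlgEquiv A σ τ)).comp (rfp_aeval r)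
  convert h using 1
  refine MvPolynomial.ringHom_ext (fun a => ?_) fun i => ?_
  · simp
  · cases i <;> simp

/-- Every presentation of a pseudo-coherent algebra has finite free syzygies. -/
theorem rfp_presentation_indep {σ τ : Type u} [Finite σ] [Finite τ] (φ : MvPolynomial σ A →ₐ[A] B)
    (ψ : MvPolynomial τ A →ₐ[A] B) (hφ : Function.Surjective φ) (hψ : Function.Surjective ψ)
    (h : RFP φ.toRingHom) : RFP ψ.toRingHom := by
  choose p hp using fun j => hφ (ψ (MvPolynomial.X j))
  choose q hq using fun i => hψ (φ (MvPolynomial.X i))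
  let r₁ : MvPolynomial (τ ⊕ σ) A →ₐ[A] MvPolynomial σ A :=
    MvPolynomial.aeval (Sum.elim p MvPolynomial.X)
  let r₂ : MvPolynomial (σ ⊕ τ) A →ₐ[A] MvPolynomial τ A :=
    MvPolynomial.aeval (Sum.elim q MvPolynomial.X)
  let e := MvPolynomial.renameEquiv A (Equiv.sumComm σ τ)
  have h12 : φ.comp (r₁.comp e.toAlgHom) = ψ.comp r₂ := by
    refine MvPolynomial.algHom_ext fun i => ?_
    cases i <;> simp [r₁, r₂, e, hp, hq]
  have h1 : RFP (φ.comp (r₁.comp e.toAlgHom)).toRingHom :=
    ((rfp_of_bijective e.toAlgHom.toRingHom e.bijective).comp (rfp_retract p)).comp h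
  rw [h12] at h1
  exact RFP.of_comp (rfp_retract q) h1

theorem isPseudoCoherentHom_iff : MoreMor.IsPseudoCoherentHom A B ↔
    ∃ (n : ℕ) (φ : MvPolynomial (Fin n) A →ₐ[A] B), Function.Surjective φ ∧ RFP φ.toRingHom := by
  simp only [MoreMor.IsPseudoCoherentHom, RFP, isPseudoCoherentModule'_iff]

theorem isPseudoCoherentHom_of_presentation {σ : Type u} [Finite σ] (φ : MvPolynomial σ A →ₐ[A] B)
    (hφ : Function.Surjective φ) (h : RFP φ.toRingHom) : MoreMor.IsPseudoCoherentHom A B := by
  obtain ⟨n, ⟨e⟩⟩ := Finite.exists_equiv_fin σ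
  exact isPseudoCoherentHom_iff.mpr ⟨n, φ.comp (MvPolynomial.renameEquiv A e.symm).toAlgHom,
    hφ.comp (MvPolynomial.renameEquiv A e.symm).surjective,
    RFP.comp (rfp_of_bijective _ (MvPolynomial.renameEquiv A e.symm).bijective) h⟩

theorem rfp_of_isPseudoCoherentHom (h : MoreMor.IsPseudoCoherentHom A B) {σ : Type u} [Finite σ]
    (φ : MvPolynomial σ A →ₐ[A] B) (hφ : Function.Surjective φ) : RFP φ.toRingHom := by
  obtain ⟨n, ψ, hψ, hψr⟩ := isPseudoCoherentHom_iff.mp h
  let e := MvPolynomial.renameEquiv A (Equiv.ulift.{u, 0} (α := Fin n))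
  exact rfp_presentation_indep (ψ.comp e.toAlgHom) φ (hψ.comp e.surjective) hφ
    (RFP.comp (rfp_of_bijective _ e.bijective) hψr)

theorem finiteType_of_isPseudoCoherentHom (h : MoreMor.IsPseudoCoherentHom A B) :
    Algebra.FiniteType A B := by
  obtain ⟨n, φ, hφ, -⟩ := h
  exact Algebra.FiniteType.of_surjective φ hφ

theorem finitePresentation_of_isPseudoCoherentHom (h : MoreMor.IsPseudoCoherentHom A B) :
    Algebra.FinitePresentation A B := by
  obtain ⟨n, φ, hφ, hr⟩ := isPseudoCoherentHom_iff.mp h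
  refine Algebra.FinitePresentation.of_surjective hφ ?_
  let a := φ.toRingHom.toAlgebra
  haveI : Module.FinitePresentation (MvPolynomial (Fin n) A) B := FPInf.finitePresentation hr
  exact Module.FinitePresentation.fg_ker (Algebra.linearMap (MvPolynomial (Fin n) A) B) hφ

theorem isPseudoCoherentHom_of_isNoetherianRing [IsNoetherianRing A] [Algebra.FiniteType A B] :
    MoreMor.IsPseudoCoherentHom A B := by
  obtain ⟨n, φ, hφ⟩ := Algebra.FiniteType.iff_quotient_mvPolynomial''.mp ‹Algebra.FiniteType A B›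
  refine isPseudoCoherentHom_iff.mpr ⟨n, φ, hφ, fun k => ?_⟩
  let a := φ.toRingHom.toAlgebra
  haveI : Module.Finite (MvPolynomial (Fin n) A) B :=
    Module.Finite.of_surjective (Algebra.linearMap _ B) hφ
  exact fpk_of_noetherian k B

theorem isPseudoCoherentHom_congr [Algebra A C] (e : B ≃ₐ[A] C)
    (h : MoreMor.IsPseudoCoherentHom A B) : MoreMor.IsPseudoCoherentHom A C := by
  obtain ⟨n, φ, hφ, hr⟩ := isPseudoCoherentHom_iff.mp h
  exact isPseudoCoherentHom_iff.mpr ⟨n, e.toAlgHom.comp φ, e.surjective.comp hφ,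
    hr.comp (rfp_of_bijective _ e.bijective)⟩

section Base

variable (A' : Type u) [CommRing A'] [Algebra A A']

attribute [local instance] MvPolynomial.algebraMvPolynomial

theorem flat_mvPolynomial [Module.Flat A A'] (σ : Type u) :
    Module.Flat (MvPolynomial σ A) (MvPolynomial σ A') :=
  Module.Flat.isBaseChange A (MvPolynomial σ A) A' (MvPolynomial σ A')
    (Algebra.IsPushout.symm (inferInstance : Algebra.IsPushout A A' (MvPolynomial σ A) (MvPolynomial σ A'))).out

theorem aeval_map_eq {σ : Type u} (φ : MvPolynomial σ A →ₐ[A] B) :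
    ∀ x, (MvPolynomial.aeval fun i => (1 : A') ⊗ₜ[A] φ (MvPolynomial.X i) :
        MvPolynomial σ A' →ₐ[A'] A' ⊗[A] B) (MvPolynomial.map (algebraMap A A') x) = 1 ⊗ₜ φ x := by
  intro x
  rw [MvPolynomial.aeval_map_algebraMap]
  exact congrFun (congrArg DFunLike.coe (MvPolynomial.algHom_ext (fun i => by simp) :
    (MvPolynomial.aeval fun i => (1 : A') ⊗ₜ[A] φ (MvPolynomial.X i) : MvPolynomial σ A →ₐ[A] A' ⊗[A] B) =
      Algebra.TensorProduct.includeRight.comp φ)) x

theorem surjective_aeval_tmul {σ : Type u} (φ : MvPolynomial σ A →ₐ[A] B) (hφ : Function.Surjective φ) :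
    Function.Surjective (MvPolynomial.aeval fun i => (1 : A') ⊗ₜ[A] φ (MvPolynomial.X i) :
      MvPolynomial σ A' →ₐ[A'] A' ⊗[A] B) := fun z => by
  induction z using TensorProduct.induction_on with
  | zero => exact ⟨0, map_zero _⟩
  | tmul a b =>
    obtain ⟨x, rfl⟩ := hφ b
    exact ⟨MvPolynomial.C a * MvPolynomial.map (algebraMap A A') x, by
      rw [map_mul, aeval_map_eq, MvPolynomial.aeval_C, Algebra.TensorProduct.algebraMap_apply,
        Algebra.TensorProduct.tmul_mul_tmul, mul_one, one_mul]; rfl⟩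
  | add x y hx hy =>
    obtain ⟨x, rfl⟩ := hx
    obtain ⟨y, rfl⟩ := hy
    exact ⟨x + y, map_add _ _ _⟩

/-- The presentation after base change, compared with the tensor product over the polynomial ring. -/
theorem rfp_aeval_tmul_iff {σ : Type u} (φ : MvPolynomial σ A →ₐ[A] B) :
    RFP (MvPolynomial.aeval fun i => (1 : A') ⊗ₜ[A] φ (MvPolynomial.X i) :
      MvPolynomial σ A' →ₐ[A'] A' ⊗[A] B).toRingHom ↔
      (letI := φ.toRingHom.toAlgebra
       FPInf (MvPolynomial σ A') (MvPolynomial σ A' ⊗[MvPolynomial σ A] B)) := by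
  letI := φ.toRingHom.toAlgebra
  haveI : IsScalarTower A (MvPolynomial σ A) B :=
    IsScalarTower.of_algebraMap_eq fun a => (φ.commutes a).symm
  let e := Algebra.IsPushout.cancelBaseChangeAlg A A' (MvPolynomial σ A) (MvPolynomial σ A') B
  have h : (MvPolynomial.aeval fun i => (1 : A') ⊗ₜ[A] φ (MvPolynomial.X i) :
      MvPolynomial σ A' →ₐ[A'] A' ⊗[A] B).toRingHom =
      e.toRingEquiv.toRingHom.comp (algebraMap (MvPolynomial σ A') (MvPolynomial σ A' ⊗[MvPolynomial σ A] B)) := by
    refine MvPolynomial.ringHom_ext (fun a => ?_) fun i => ?_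
    · apply e.symm.injective
      simp [e, Algebra.TensorProduct.algebraMap_apply, MvPolynomial.algebraMap_eq]
    · apply e.symm.injective
      have h1 : (MvPolynomial.X i : MvPolynomial σ A') =
          algebraMap (MvPolynomial σ A) (MvPolynomial σ A') (MvPolynomial.X i) :=
        (MvPolynomial.map_X _ i).symm
      simp only [e, AlgHom.toRingHom_eq_coe, RingHom.coe_coe, MvPolynomial.aeval_X, RingHom.comp_apply,
        Algebra.IsPushout.cancelBaseChangeAlg_symm_tmul, map_one]
      show (1 : MvPolynomial σ A') ⊗ₜ[MvPolynomial σ A] φ (MvPolynomial.X i) = e.symm (e _)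
      rw [e.symm_apply_apply, Algebra.TensorProduct.algebraMap_apply, Algebra.algebraMap_self_apply]
      conv_rhs => rw [h1, Algebra.algebraMap_eq_smul_one, TensorProduct.smul_tmul,
        ← Algebra.algebraMap_eq_smul_one]
      rfl
  rw [h]
  constructor
  · intro hr
    have := hr.comp (rfp_of_bijective e.symm.toRingEquiv.toRingHom e.symm.bijective)
    rw [← RingHom.comp_assoc] at this
    rw [← rfp_algebraMap]
    convert this using 1
    ext x <;> simp
  · exact fun hr => RFP.comp (rfp_algebraMap.mpr hr) (rfp_of_bijective _ e.bijective)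

/-- Flat base change. -/
theorem isPseudoCoherentHom_baseChange [Module.Flat A A'] (h : MoreMor.IsPseudoCoherentHom A B) :
    MoreMor.IsPseudoCoherentHom A' (A' ⊗[A] B) := by
  obtain ⟨n, φ, hφ, hr⟩ := isPseudoCoherentHom_iff.mp h
  let φ₀ := φ.comp (MvPolynomial.renameEquiv A (Equiv.ulift.{u, 0} (α := Fin n))).toAlgHom
  have hφ₀ : Function.Surjective φ₀ := hφ.comp (MvPolynomial.renameEquiv A _).surjective
  refine isPseudoCoherentHom_of_presentation _ (surjective_aeval_tmul A' φ₀ hφ₀)
    ((rfp_aeval_tmul_iff A' φ₀).mpr ?_)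
  letI := φ₀.toRingHom.toAlgebra
  haveI := flat_mvPolynomial (A := A) A' (ULift.{u} (Fin n))
  exact FPInf.baseChange _ (rfp_of_isPseudoCoherentHom h φ₀ hφ₀)

/-- Base change of an algebra which is flat over the base, along any ring map. -/
theorem isPseudoCoherentHom_baseChange_of_flat [Module.Flat A B]
    (h : MoreMor.IsPseudoCoherentHom A B) : MoreMor.IsPseudoCoherentHom A' (A' ⊗[A] B) := by
  obtain ⟨n, φ, hφ, hr⟩ := isPseudoCoherentHom_iff.mp h
  let φ₀ := φ.comp (MvPolynomial.renameEquiv A (Equiv.ulift.{u, 0} (α := Fin n))).toAlgHom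
  have hφ₀ : Function.Surjective φ₀ := hφ.comp (MvPolynomial.renameEquiv A _).surjective
  refine isPseudoCoherentHom_of_presentation _ (surjective_aeval_tmul A' φ₀ hφ₀)
    ((rfp_aeval_tmul_iff A' φ₀).mpr fun k => ?_)
  letI := φ₀.toRingHom.toAlgebra
  haveI : IsScalarTower A (MvPolynomial (ULift.{u} (Fin n)) A) B :=
    IsScalarTower.of_algebraMap_eq fun a => (φ₀.commutes a).symm
  exact FPk.baseChange_of_flat A A' (MvPolynomial (ULift.{u} (Fin n)) A')
    (rfp_of_isPseudoCoherentHom h φ₀ hφ₀ k)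

/-- Descent along a faithfully flat ring map. -/
theorem isPseudoCoherentHom_descent [Module.FaithfullyFlat A A']
    (h : MoreMor.IsPseudoCoherentHom A' (A' ⊗[A] B)) : MoreMor.IsPseudoCoherentHom A B := by
  haveI : Algebra.FiniteType A' (A' ⊗[A] B) := finiteType_of_isPseudoCoherentHom h
  haveI : Algebra.FiniteType A B := .of_finiteType_tensorProduct_of_faithfullyFlat A'
  obtain ⟨n, φ, hφ⟩ := Algebra.FiniteType.iff_quotient_mvPolynomial''.mp ‹Algebra.FiniteType A B›
  let φ₀ := φ.comp (MvPolynomial.renameEquiv A (Equiv.ulift.{u, 0} (α := Fin n))).toAlgHom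
  have hφ₀ : Function.Surjective φ₀ := hφ.comp (MvPolynomial.renameEquiv A _).surjective
  refine isPseudoCoherentHom_of_presentation φ₀ hφ₀ fun k => ?_
  letI := φ₀.toRingHom.toAlgebra
  haveI := flat_mvPolynomial (A := A) A' (ULift.{u} (Fin n))
  haveI : Module.FaithfullyFlat (MvPolynomial (ULift.{u} (Fin n)) A) (MvPolynomial (ULift.{u} (Fin n)) A') :=
    Module.FaithfullyFlat.of_linearEquiv (MvPolynomial (ULift.{u} (Fin n)) A)
      (MvPolynomial (ULift.{u} (Fin n)) A ⊗[A] A')
      (Algebra.IsPushout.symm (inferInstance : Algebra.IsPushout A A' (MvPolynomial (ULift.{u} (Fin n)) A)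
        (MvPolynomial (ULift.{u} (Fin n)) A'))).out.equiv.symm
  exact FPk.of_faithfullyFlat _ ((rfp_aeval_tmul_iff A' φ₀).mp
    (rfp_of_isPseudoCoherentHom h _ (surjective_aeval_tmul A' φ₀ hφ₀)) k)

end Base

section Tower

variable [Algebra A C] [Algebra B C] [IsScalarTower A B C]

attribute [local instance] MvPolynomial.algebraMvPolynomial

/-- Polynomial extension of a presentation. -/
theorem rfp_map {σ τ : Type u} [Finite σ] (φ : MvPolynomial σ A →ₐ[A] B) (h : RFP φ.toRingHom) :
    RFP (MvPolynomial.map (σ := τ) φ.toRingHom) := by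
  letI := φ.toRingHom.toAlgebra
  let P := MvPolynomial σ A
  haveI : Module.Flat P (MvPolynomial τ P) := inferInstance
  let e := MvPolynomial.algebraTensorAlgEquiv (σ := τ) P B
  have h1 :=
    (rfp_algebraMap (R := MvPolynomial τ P) (S := MvPolynomial τ P ⊗[P] B)).mpr
      (FPInf.baseChange (MvPolynomial τ P) (h : FPInf P B))
  let c := (Algebra.TensorProduct.comm P (MvPolynomial τ P) B).toRingEquiv
  have h2 := (h1.comp (rfp_ringEquiv c)).comp (rfp_ringEquiv e.toRingEquiv)
  convert h2 using 1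
  refine MvPolynomial.ringHom_ext (fun a => ?_) fun i => ?_ <;>
    simp [e, c, MvPolynomial.algebraMap_eq, Algebra.TensorProduct.algebraMap_apply, P] <;> rfl

/-- Composite presentation. -/
theorem rfp_compPres {σ τ : Type u} [Finite σ] (φ : MvPolynomial σ A →ₐ[A] B) (hφr : RFP φ.toRingHom)
    (ψ : MvPolynomial τ B →ₐ[B] C) :
    ∃ χ : MvPolynomial (τ ⊕ σ) A →ₐ[A] C,
      (Function.Surjective φ → Function.Surjective ψ → Function.Surjective χ) ∧
      (RFP χ.toRingHom ↔ RFP ψ.toRingHom) := by
  let e := MvPolynomial.sumAlgEquiv A τ σ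
  let χ₀ : MvPolynomial (τ ⊕ σ) A →+* C :=
    (ψ.toRingHom.comp (MvPolynomial.map φ.toRingHom)).comp e.toAlgHom.toRingHom
  let χ : MvPolynomial (τ ⊕ σ) A →ₐ[A] C :=
    { χ₀ with
      commutes' := fun a => by
        simp [χ₀, e, MvPolynomial.algebraMap_eq, IsScalarTower.algebraMap_apply A B C] }
  refine ⟨χ, fun h1 h2 => h2.comp ((MvPolynomial.map_surjective _ h1).comp e.surjective), ?_⟩
  have hb : RFP ((MvPolynomial.map (σ := τ) φ.toRingHom).comp e.toAlgHom.toRingHom) :=
    RFP.comp (rfp_of_bijective _ e.bijective) (rfp_map φ hφr)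
  have hχ : χ.toRingHom = ψ.toRingHom.comp
      ((MvPolynomial.map (σ := τ) φ.toRingHom).comp e.toAlgHom.toRingHom) := rfl
  rw [hχ]
  exact ⟨fun h => RFP.of_comp hb h, fun h => RFP.comp hb h⟩

theorem isPseudoCoherentHom_comp (h1 : MoreMor.IsPseudoCoherentHom A B)
    (h2 : MoreMor.IsPseudoCoherentHom B C) : MoreMor.IsPseudoCoherentHom A C := by
  obtain ⟨n, φ, hφ, hr⟩ := isPseudoCoherentHom_iff.mp h1
  obtain ⟨m, ψ, hψ, hr'⟩ := isPseudoCoherentHom_iff.mp h2
  let φ₀ := φ.comp (MvPolynomial.renameEquiv A (Equiv.ulift.{u, 0} (α := Fin n))).toAlgHom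
  let ψ₀ := ψ.comp (MvPolynomial.renameEquiv B (Equiv.ulift.{u, 0} (α := Fin m))).toAlgHom
  have hφ₀ : Function.Surjective φ₀ := hφ.comp (MvPolynomial.renameEquiv A _).surjective
  have hψ₀ : Function.Surjective ψ₀ := hψ.comp (MvPolynomial.renameEquiv B _).surjective
  obtain ⟨χ, hχ, hiff⟩ := rfp_compPres φ₀ (rfp_of_isPseudoCoherentHom h1 φ₀ hφ₀) ψ₀
  exact isPseudoCoherentHom_of_presentation χ (hχ hφ₀ hψ₀)
    (hiff.mpr (rfp_of_isPseudoCoherentHom h2 ψ₀ hψ₀))

theorem isPseudoCoherentHom_of_comp (h1 : MoreMor.IsPseudoCoherentHom A B)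
    (h : MoreMor.IsPseudoCoherentHom A C) : MoreMor.IsPseudoCoherentHom B C := by
  haveI := finiteType_of_isPseudoCoherentHom h
  haveI : Algebra.FiniteType B C := Algebra.FiniteType.of_restrictScalars_finiteType A B C
  obtain ⟨n, φ, hφ, hr⟩ := isPseudoCoherentHom_iff.mp h1
  obtain ⟨m, ψ, hψ⟩ := Algebra.FiniteType.iff_quotient_mvPolynomial''.mp ‹Algebra.FiniteType B C›
  let φ₀ := φ.comp (MvPolynomial.renameEquiv A (Equiv.ulift.{u, 0} (α := Fin n))).toAlgHom
  let ψ₀ := ψ.comp (MvPolynomial.renameEquiv B (Equiv.ulift.{u, 0} (α := Fin m))).toAlgHom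
  have hφ₀ : Function.Surjective φ₀ := hφ.comp (MvPolynomial.renameEquiv A _).surjective
  have hψ₀ : Function.Surjective ψ₀ := hψ.comp (MvPolynomial.renameEquiv B _).surjective
  obtain ⟨χ, hχ, hiff⟩ := rfp_compPres φ₀ (rfp_of_isPseudoCoherentHom h1 φ₀ hφ₀) ψ₀
  exact isPseudoCoherentHom_of_presentation ψ₀ hψ₀
    (hiff.mp (rfp_of_isPseudoCoherentHom h χ (hχ hφ₀ hψ₀)))

end Tower

/-- A basic localisation is pseudo-coherent. -/
theorem isPseudoCoherentHom_away (f : A) : MoreMor.IsPseudoCoherentHom A (Localization.Away f) := by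
  let p : Polynomial A := Polynomial.C f * Polynomial.X - 1
  have hp : p ∈ nonZeroDivisors (Polynomial A) := by
    nontriviality A
    have h0 : p.coeff 0 = -1 := by simp [p]
    refine Polynomial.mem_nonZeroDivisors_of_trailingCoeff ?_
    rw [Polynomial.trailingCoeff, Polynomial.natTrailingDegree_eq_zero.mpr (Or.inr (by simp [h0])), h0]
    exact isUnit_one.neg.mem_nonZeroDivisors
  have h1 : RFP (AdjoinRoot.mk p) :=
    rfp_of_span_singleton _ AdjoinRoot.mk_surjective p hp (Ideal.mk_ker)
  let u := MvPolynomial.uniqueAlgEquiv A PUnit.{u + 1}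
  let e : AdjoinRoot p ≃ₐ[A] Localization.Away f := (Localization.awayEquivAdjoin f).symm
  refine isPseudoCoherentHom_of_presentation
    ((e.toAlgHom.comp (AdjoinRoot.mkₐ p)).comp u.toAlgHom)
    ((e.surjective.comp AdjoinRoot.mk_surjective).comp u.surjective) ?_
  exact ((rfp_of_bijective _ u.bijective).comp h1).comp (rfp_of_bijective _ e.bijective)

end Presentation

end Groth.Agent.H8Props.PseudoCoh
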