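import Groth.Agent.H8Props.PseudoCoh.FlatLocalProp

/-!
# Perfect morphisms
-/

set_option autoImplicit false
set_option linter.style.haveILetI false
universe u

open TensorProduct AlgebraicGeometry CategoryTheory CategoryTheory.Limits

namespace Groth.Agent.H8Props.PseudoCoh

theorem perfRing_of_isPushout {R R' B B' : CommRingCat.{u}} {f : R ⟶ B} {g : R ⟶ R'} {g' : B ⟶ B'}
    {f' : R' ⟶ B'} (sq : IsPushout g f f' g') (hg : g.hom.Flat) (hf : PerfRing f.hom) :
    PerfRing f'.hom := by
  letI := f.hom.toAlgebra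
  letI := g.hom.toAlgebra
  letI := f'.hom.toAlgebra
  letI := g'.hom.toAlgebra
  letI : Algebra R B' := (f'.hom.comp g.hom).toAlgebra
  haveI : IsScalarTower R R' B' := IsScalarTower.of_algebraMap_eq fun _ => rfl
  haveI : IsScalarTower R B B' :=
    IsScalarTower.of_algebraMap_eq fun x => congrArg (fun φ => φ.hom x) sq.w
  have hp : Algebra.IsPushout R R' B B' := CommRingCat.isPushout_iff_isPushout.mp sq
  haveI : Module.Flat R R' := hg
  exact isPerfectHom_congr (Algebra.IsPushout.equiv R R' B B')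
    (isPerfectHom_baseChange R' (hf : MoreMor.IsPerfectHom R B))

theorem perfRing_of_isPushout_descent {R R' B B' : CommRingCat.{u}} {f : R ⟶ B} {g : R ⟶ R'}
    {g' : B ⟶ B'} {f' : R' ⟶ B'} (sq : IsPushout g f f' g') (hg : g.hom.FaithfullyFlat)
    (hf : PerfRing f'.hom) : PerfRing f.hom := by
  letI := f.hom.toAlgebra
  letI := g.hom.toAlgebra
  letI := f'.hom.toAlgebra
  letI := g'.hom.toAlgebra
  letI : Algebra R B' := (f'.hom.comp g.hom).toAlgebra
  haveI : IsScalarTower R R' B' := IsScalarTower.of_algebraMap_eq fun _ => rfl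
  haveI : IsScalarTower R B B' :=
    IsScalarTower.of_algebraMap_eq fun x => congrArg (fun φ => φ.hom x) sq.w
  have hp : Algebra.IsPushout R R' B B' := CommRingCat.isPushout_iff_isPushout.mp sq
  haveI : Module.FaithfullyFlat R R' := hg
  exact isPerfectHom_descent R' (isPerfectHom_congr
    (Algebra.IsPushout.equiv R R' B B').symm (hf : MoreMor.IsPerfectHom R' B'))

theorem isPerfectMor_of_flat {X S : Scheme.{u}} (f : X ⟶ S) [Flat f]
    [LocallyOfFinitePresentation f] : MoreMor.IsPerfectMor f := fun U V hU hV e => by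
  letI := (f.appLE V U e).hom.toAlgebra
  haveI : Module.Flat Γ(S, V) Γ(X, U) :=
    HasRingHomProperty.appLE (P := @Flat) f ‹_› ⟨V, hV⟩ ⟨U, hU⟩ e
  haveI : Algebra.FinitePresentation Γ(S, V) Γ(X, U) :=
    HasRingHomProperty.appLE (P := @LocallyOfFinitePresentation) f ‹_› ⟨V, hV⟩ ⟨U, hU⟩ e
  exact isPerfectHom_of_flat

theorem isPerfectMor_of_isPullback {X S X' S' : Scheme.{u}} {f : X ⟶ S} {f' : X' ⟶ S'}
    {g' : X' ⟶ X} {g : S' ⟶ S} [Flat g] (hc : IsPullback g' f' f g)
    (hf : MoreMor.IsPerfectMor f) : MoreMor.IsPerfectMor f' :=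
  FlatLocalProp.of_isPullback (P := @MoreMor.IsPerfectMor) perfRing_of_isPushout hc hf

theorem isPerfectMor_descent {X S X' S' : Scheme.{u}} {f : X ⟶ S} {f' : X' ⟶ S'}
    {g' : X' ⟶ X} {g : S' ⟶ S} [Flat g] [Surjective g] [QuasiCompact g] (hc : IsPullback g' f' f g)
    (hf' : MoreMor.IsPerfectMor f') : MoreMor.IsPerfectMor f :=
  FlatLocalProp.descent (P := @MoreMor.IsPerfectMor) perfRing_of_isPushout
    perfRing_of_isPushout_descent hc hf'

end Groth.Agent.H8Props.PseudoCoh
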