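import Groth.Agent.H8Props.PseudoCoh.PerfectMor
import Mathlib.RingTheory.Unramified.Finite
import Mathlib.RingTheory.RingHom.StandardSmooth
import Mathlib.RingTheory.Etale.Basic

/-!
# Cancelling a smooth map from a perfect one
-/

set_option autoImplicit false
set_option linter.style.haveILetI false
universe u

open TensorProduct CategoryTheory CategoryTheory.Limits

namespace Groth.Agent.H8Props.PseudoCoh

theorem hasTorDimLE_of_retract {A : Type u} [CommRing A] {n : ℕ} {M M' : Type u} [AddCommGroup M]
    [Module A M] [AddCommGroup M'] [Module A M'] (i : M →ₗ[A] M') (r : M' →ₗ[A] M)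
    (hri : ∀ x, r (i x) = x) (h : DRing.HasTorDimLE A n M') : DRing.HasTorDimLE A n M :=
  hasTorDimLE_iff_isZero.mpr fun N p hp => by
    let F := CategoryTheory.Tor (ModuleCat.{u} A) p
    have hz := hasTorDimLE_iff_isZero.mp h N p hp
    have hid : ModuleCat.ofHom i ≫ ModuleCat.ofHom r = 𝟙 (ModuleCat.of A M) :=
      ModuleCat.hom_ext (LinearMap.ext hri)
    rw [IsZero.iff_id_eq_zero]
    calc 𝟙 ((F.obj (ModuleCat.of A M)).obj N)
        = (F.map (ModuleCat.ofHom i ≫ ModuleCat.ofHom r)).app N := by
          rw [hid, F.map_id, NatTrans.id_app]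
      _ = 0 := by
          rw [F.map_comp, NatTrans.comp_app, hz.eq_of_tgt ((F.map (ModuleCat.ofHom i)).app N) 0,
            zero_comp]

/-- Tor dimension over an unramified flat extension is at most the one over the base. -/
theorem hasTorDimLE_of_unramified {A B C : Type u} [CommRing A] [CommRing B] [CommRing C]
    [Algebra A B] [Algebra A C] [Algebra B C] [IsScalarTower A B C] [Module.Flat A B]
    [Algebra.FormallyUnramified A B] [Algebra.EssFiniteType A B] {n : ℕ}
    (h : DRing.HasTorDimLE A n C) : DRing.HasTorDimLE B n C := by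
  let Φ : B ⊗[A] B →ₐ[B] B ⊗[A] C :=
    Algebra.TensorProduct.map (AlgHom.id B B) (IsScalarTower.toAlgHom A B C)
  let e := Algebra.FormallyUnramified.elem A B
  have he : ∀ b : B, Φ e * ((1 : B) ⊗ₜ algebraMap B C b) = b • Φ e := fun b => by
    rw [mul_comm, show (1 : B) ⊗ₜ[A] algebraMap B C b = Φ (1 ⊗ₜ b) from rfl, ← map_mul,
      Algebra.FormallyUnramified.one_tmul_mul_elem, ← map_smul]
    congr 1
    rw [Algebra.smul_def, Algebra.TensorProduct.algebraMap_apply, Algebra.algebraMap_self_apply]
  let s : C →ₗ[B] B ⊗[A] C :=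
    { toFun := fun c => Φ e * ((1 : B) ⊗ₜ c)
      map_add' := fun x y => by rw [TensorProduct.tmul_add, mul_add]
      map_smul' := fun b c => by
        rw [RingHom.id_apply, Algebra.smul_def b c,
          show (1 : B) ⊗ₜ[A] (algebraMap B C b * c) = ((1 : B) ⊗ₜ algebraMap B C b) * (1 ⊗ₜ c) by
            rw [Algebra.TensorProduct.tmul_mul_tmul, mul_one],
          ← mul_assoc, he, smul_mul_assoc] }
  let r : B ⊗[A] C →ₐ[B] C :=
    Algebra.TensorProduct.lift (Algebra.ofId B C) (AlgHom.id A C) fun _ _ => Commute.all _ _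
  have hrΦ : ∀ z, r (Φ z) = algebraMap B C (Algebra.TensorProduct.lmul' A z) := fun z => by
    induction z using TensorProduct.induction_on with
    | zero => simp
    | tmul x y => simp [r, Φ]
    | add x y hx hy => simp only [map_add, hx, hy]
  refine hasTorDimLE_of_retract s r.toLinearMap (fun c => ?_) (hasTorDimLE_baseChange (B := B) h)
  show r (Φ e * ((1 : B) ⊗ₜ c)) = c
  rw [map_mul, hrΦ, Algebra.FormallyUnramified.lmul_elem, map_one, one_mul]
  simp [r]

/-- Cancellation of a standard smooth map. -/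
theorem perfRing_of_comp_isStandardSmooth {R S T : Type u} [CommRing R] [CommRing S] [CommRing T]
    {f : R →+* S} {g : S →+* T} (hf : f.IsStandardSmooth) (hpc : PCRing f)
    (h : PerfRing (g.comp f)) : PerfRing g := by
  obtain ⟨hgf, d, hd⟩ := perfRing_iff.mp h
  refine perfRing_iff.mpr ⟨PCRing.of_comp hpc hgf, ?_⟩
  obtain ⟨m, ψ, hψ, het⟩ := RingHom.IsStandardSmooth.exists_etale_mvPolynomial hf
  let a₁ := (g.comp f).toAlgebra
  let φ : MvPolynomial (Fin m) R →ₐ[R] T :=
    { g.comp ψ with commutes' := fun a => congrArg g (congrArg (fun k : R →+* S => k a) hψ) }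
  have h1 : TDR φ.toRingHom (d + m) := tdr_presentation (A := R) (B := T) hd m φ
  let a₂ := ψ.toAlgebra
  let a₃ := φ.toRingHom.toAlgebra
  let a₄ := g.toAlgebra
  haveI : IsScalarTower (MvPolynomial (Fin m) R) S T := IsScalarTower.of_algebraMap_eq fun _ => rfl
  haveI : Algebra.Etale (MvPolynomial (Fin m) R) S := het
  exact ⟨d + m, hasTorDimLE_of_unramified (A := MvPolynomial (Fin m) R) (B := S) (C := T) h1⟩

end Groth.Agent.H8Props.PseudoCoh
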