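import Groth.Agent.H8Props.PseudoCoh.Morphism
import Groth.Agent.H8Props.PseudoCoh.PerfectModule
import Mathlib.RingTheory.PolynomialAlgebra
import Mathlib.RingTheory.Localization.Module

/-!
# Perfect ring maps

Pseudo-coherent ring maps of finite tor dimension: composition, flat base change, descent, locality,
and the characterisation by a perfect module over a polynomial ring.
-/

set_option autoImplicit false
set_option linter.style.haveILetI false
universe u

open TensorProduct

namespace Groth.Agent.H8Props.PseudoCoh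

/-- The target has tor dimension at most `d` over the source. -/
def TDR {S C : Type u} [CommRing S] [CommRing C] (f : S →+* C) (d : ℕ) : Prop :=
  letI := f.toAlgebra
  DRing.HasTorDimLE S d C

theorem tdr_algebraMap {S C : Type u} [CommRing S] [CommRing C] [Algebra S C] {d : ℕ} :
    TDR (algebraMap S C) d ↔ DRing.HasTorDimLE S d C := by
  unfold TDR
  rw [toAlgebra_algebraMap]

theorem TDR.comp {R S T : Type u} [CommRing R] [CommRing S] [CommRing T] {f : R →+* S} {g : S →+* T}
    {d e : ℕ} (hf : TDR f d) (hg : TDR g e) : TDR (g.comp f) (d + e) := by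
  let a₁ := f.toAlgebra
  let a₂ := g.toAlgebra
  let a₃ := (g.comp f).toAlgebra
  haveI : IsScalarTower R S T := IsScalarTower.of_algebraMap_eq fun _ => rfl
  exact hasTorDimLE_trans (A := R) (B := S) hf hg

theorem tdr_of_bijective {S C : Type u} [CommRing S] [CommRing C] (f : S →+* C)
    (hf : Function.Bijective f) : TDR f 0 := by
  let a := f.toAlgebra
  haveI : Module.Flat S C :=
    Module.Flat.of_linearEquiv (LinearEquiv.ofBijective (Algebra.linearMap S C) hf).symm
  exact hasTorDimLE_of_flat 0 C

/-- Adjoining one variable raises the tor dimension by at most one. -/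
theorem tdr_eval₂ {S C : Type u} [CommRing S] [CommRing C] {f : S →+* C} {d : ℕ} (hf : TDR f d)
    (c : C) : TDR (Polynomial.eval₂RingHom f c) (d + 1) := by
  letI := f.toAlgebra
  letI : Algebra (Polynomial S) (Polynomial C) := Polynomial.algebra S C
  let e := (Algebra.IsPushout.symm (inferInstance : Algebra.IsPushout S C (Polynomial S) (Polynomial C))).out.equiv
  have h1 : DRing.HasTorDimLE (Polynomial S) d (Polynomial C) :=
    hasTorDimLE_of_equiv e (hasTorDimLE_baseChange (B := Polynomial S) hf)
  letI : Module (Polynomial S) (Polynomial C) := (Polynomial.algebra S C).toModule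
  letI := (Polynomial.eval₂RingHom f c).toAlgebra
  let p : Polynomial C := Polynomial.X - Polynomial.C c
  let ev : Polynomial C →ₗ[Polynomial S] C :=
    { toFun := fun q => q.eval c
      map_add' := fun a b => Polynomial.eval_add
      map_smul' := fun a q => by
        rw [Algebra.smul_def, Algebra.smul_def, Polynomial.eval_mul, RingHom.id_apply]
        congr 1
        show (a.map f).eval c = a.eval₂ f c
        rw [Polynomial.eval_map] }
  refine hasTorDimLE_quot (i := LinearMap.mulLeft (Polynomial S) p) (p := ev) ?_ ?_ ?_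
    (hasTorDimLE_mono (Nat.le_succ d) h1) h1
  · intro a b hab
    exact sub_eq_zero.mp ((mul_left_mem_nonZeroDivisors_eq_zero_iff
      (Polynomial.monic_X_sub_C c).mem_nonZeroDivisors).mp
      (show p * (a - b) = 0 by rw [mul_sub]; exact sub_eq_zero.mpr hab))
  · exact fun x => ⟨Polynomial.C x, Polynomial.eval_C⟩
  · intro q
    show q.eval c = 0 ↔ _
    rw [← Polynomial.IsRoot.def, ← Polynomial.dvd_iff_isRoot]
    exact ⟨fun ⟨r, hr⟩ => ⟨r, hr.symm⟩, fun ⟨r, hr⟩ => ⟨r, hr.symm⟩⟩

section Presentation

variable {A B : Type u} [CommRing A] [CommRing B] [Algebra A B]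

/-- Tor dimension over a polynomial ring. -/
theorem tdr_presentation {d : ℕ} (hB : DRing.HasTorDimLE A d B) : ∀ (n : ℕ)
    (φ : MvPolynomial (Fin n) A →ₐ[A] B), TDR φ.toRingHom (d + n)
  | 0, φ => by
    let e := MvPolynomial.isEmptyAlgEquiv A (Fin 0)
    have h : φ.toRingHom = (algebraMap A B).comp e.toAlgHom.toRingHom :=
      MvPolynomial.ringHom_ext (fun a => by
        show φ (algebraMap A _ a) = algebraMap A B (e (algebraMap A _ a))
        rw [φ.commutes, e.commutes]
        rfl) fun i => i.elim0
    rw [h, show d + 0 = 0 + d from (Nat.zero_add d).symm]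
    exact (tdr_of_bijective e.toAlgHom.toRingHom e.bijective).comp (tdr_algebraMap.mpr hB)
  | n + 1, φ => by
    let φ' := φ.comp (MvPolynomial.rename Fin.succ)
    let e := MvPolynomial.finSuccEquiv A n
    have h : φ.toRingHom =
        (Polynomial.eval₂RingHom φ'.toRingHom (φ (MvPolynomial.X 0))).comp e.toAlgHom.toRingHom := by
      refine MvPolynomial.ringHom_ext (fun a => ?_) fun i => ?_
      · show φ (algebraMap A _ a) = Polynomial.eval₂ φ'.toRingHom _ (e (algebraMap A _ a))
        rw [φ.commutes, e.commutes, Polynomial.algebraMap_apply, Polynomial.eval₂_C]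
        exact (φ'.commutes a).symm
      · induction i using Fin.cases with
        | zero => simp [e, MvPolynomial.finSuccEquiv_X_zero]
        | succ j => simp [e, φ', MvPolynomial.finSuccEquiv_X_succ]
    rw [h, show d + (n + 1) = 0 + (d + n + 1) from (Nat.zero_add _).symm]
    exact (tdr_of_bijective e.toAlgHom.toRingHom e.bijective).comp
      (tdr_eval₂ (tdr_presentation hB n φ') _)

theorem isPerfectHom_iff : MoreMor.IsPerfectHom A B ↔
    MoreMor.IsPseudoCoherentHom A B ∧ ∃ d, DRing.HasTorDimLE A d B := Iff.rfl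

/-- Perfect ring maps and perfect modules over a polynomial ring. -/
theorem isPerfectHom_iff_presentation : MoreMor.IsPerfectHom A B ↔
    ∃ (n : ℕ) (φ : MvPolynomial (Fin n) A →ₐ[A] B), Function.Surjective φ ∧
      letI := φ.toRingHom.toAlgebra
      DRing.IsPerfectModule (MvPolynomial (Fin n) A) B := by
  constructor
  · rintro ⟨hpc, d, hd⟩
    obtain ⟨n, φ, hφ, hr⟩ := isPseudoCoherentHom_iff.mp hpc
    refine ⟨n, φ, hφ, ?_⟩
    letI := φ.toRingHom.toAlgebra
    exact isPerfectModule_iff.mpr ⟨hr, d + n, tdr_presentation hd n φ⟩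
  · rintro ⟨n, φ, hφ, hp⟩
    letI := φ.toRingHom.toAlgebra
    haveI : IsScalarTower A (MvPolynomial (Fin n) A) B :=
      IsScalarTower.of_algebraMap_eq fun a => (φ.commutes a).symm
    obtain ⟨h1, m, h2⟩ := isPerfectModule_iff.mp hp
    exact ⟨isPseudoCoherentHom_iff.mpr ⟨n, φ, hφ, h1⟩, m, hasTorDimLE_restrictScalars h2⟩

theorem isPerfectHom_of_flat [Algebra.FinitePresentation A B] [Module.Flat A B] :
    MoreMor.IsPerfectHom A B :=
  ⟨isPseudoCoherentHom_of_flat A B, 0, hasTorDimLE_of_flat 0 B⟩

variable {C : Type u} [CommRing C] [Algebra A C]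

theorem isPerfectHom_congr (e : B ≃ₐ[A] C) (h : MoreMor.IsPerfectHom A B) :
    MoreMor.IsPerfectHom A C :=
  ⟨isPseudoCoherentHom_congr e h.1, h.2.imp fun _ hd => hasTorDimLE_of_equiv e.toLinearEquiv hd⟩

theorem isPerfectHom_baseChange (A' : Type u) [CommRing A'] [Algebra A A'] [Module.Flat A A']
    (h : MoreMor.IsPerfectHom A B) : MoreMor.IsPerfectHom A' (A' ⊗[A] B) :=
  ⟨isPseudoCoherentHom_baseChange A' h.1, h.2.imp fun _ hd => hasTorDimLE_baseChange hd⟩

theorem isPerfectHom_descent (A' : Type u) [CommRing A'] [Algebra A A'] [Module.FaithfullyFlat A A']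
    (h : MoreMor.IsPerfectHom A' (A' ⊗[A] B)) : MoreMor.IsPerfectHom A B :=
  ⟨isPseudoCoherentHom_descent A' h.1, h.2.imp fun _ hd => hasTorDimLE_of_faithfullyFlat hd⟩

end Presentation

section Local

/-- Perfectness of a ring map. -/
def PerfRing {R S : Type u} [CommRing R] [CommRing S] (f : R →+* S) : Prop :=
  letI := f.toAlgebra
  MoreMor.IsPerfectHom R S

variable {R S T : Type u} [CommRing R] [CommRing S] [CommRing T]

theorem perfRing_iff {f : R →+* S} : PerfRing f ↔ PCRing f ∧ ∃ d, TDR f d := Iff.rfl

theorem PerfRing.comp {f : R →+* S} {g : S →+* T} (hf : PerfRing f) (hg : PerfRing g) :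
    PerfRing (g.comp f) := by
  obtain ⟨h1, d, h2⟩ := perfRing_iff.mp hf
  obtain ⟨h3, e, h4⟩ := perfRing_iff.mp hg
  exact perfRing_iff.mpr ⟨h1.comp h3, d + e, h2.comp h4⟩

theorem perfRing_away (r : R) (S : Type u) [CommRing S] [Algebra R S] [IsLocalization.Away r S] :
    PerfRing (algebraMap R S) := by
  haveI : Module.Flat R S := IsLocalization.flat S (Submonoid.powers r)
  exact perfRing_iff.mpr ⟨pcRing_away r S, 0, tdr_algebraMap.mpr (hasTorDimLE_of_flat 0 S)⟩

theorem hasTorDimLE_pi {ι : Type u} [Finite ι] (M : ι → Type u) [∀ i, AddCommGroup (M i)]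
    [∀ i, Module R (M i)] {d : ℕ} (h : ∀ i, DRing.HasTorDimLE R d (M i)) :
    DRing.HasTorDimLE R d (∀ i, M i) := by
  induction ι using Finite.induction_empty_option with
  | of_equiv e ih =>
    exact hasTorDimLE_of_equiv (LinearEquiv.piCongrLeft R M e) (ih (fun i => M (e i)) fun i => h (e i))
  | h_empty => exact hasTorDimLE_of_flat d _
  | h_option ih =>
    refine hasTorDimLE_of_equiv (LinearEquiv.piOptionEquivProd R).symm ?_
    exact hasTorDimLE_ext (i := LinearMap.inl R _ _) (p := LinearMap.snd R _ _)
      LinearMap.inl_injective LinearMap.snd_surjective Function.Exact.inl_snd (h none)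
      (ih (fun i => M (some i)) fun i => h (some i))

theorem perfRing_ofLocalizationSpanTarget : RingHom.OfLocalizationSpanTarget @PerfRing.{u} := by
  rw [RingHom.ofLocalizationSpanTarget_iff_finite]
  intro R S _ _ f s hs H
  refine perfRing_iff.mpr ⟨pcRing_ofLocalizationSpanTarget f s hs fun r => (perfRing_iff.mp (H r)).1, ?_⟩
  choose d hd using fun r : s => (perfRing_iff.mp (H r)).2
  letI := f.toAlgebra
  let C := ∀ r : s, Localization.Away (r : S)
  refine ⟨Finset.univ.sup d, ?_⟩
  have hC : DRing.HasTorDimLE R (Finset.univ.sup d) C := by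
    refine hasTorDimLE_pi _ fun r => hasTorDimLE_mono (Finset.le_sup (Finset.mem_univ r)) ?_
    have h := hd r
    rw [show (algebraMap S (Localization.Away (r : S))).comp f =
      algebraMap R (Localization.Away (r : S)) from (IsScalarTower.algebraMap_eq R S _).symm] at h
    exact tdr_algebraMap.mp h
  haveI : Module.FaithfullyFlat S C := by
    haveI : ∀ r : s, Module.Flat S (Localization.Away (r : S)) := fun r =>
      IsLocalization.flat _ (Submonoid.powers (r : S))
    refine Module.FaithfullyFlat.of_comap_surjective fun q => ?_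
    obtain ⟨g, hg, hgq⟩ : ∃ g ∈ s, g ∉ q.asIdeal := by
      by_contra! hcon
      exact q.isPrime.ne_top (top_unique (hs ▸ Ideal.span_le.mpr hcon))
    obtain ⟨Q, hQ⟩ : q ∈ Set.range (PrimeSpectrum.comap (algebraMap S (Localization.Away g))) := by
      rw [PrimeSpectrum.localization_away_comap_range _ g]
      exact hgq
    refine ⟨Q.comap (Pi.evalRingHom (fun r : s => Localization.Away (r : S)) ⟨g, hg⟩), ?_⟩
    rw [← hQ]
    rfl
  exact hasTorDimLE_algebra_of_faithfullyFlat C hC

theorem perfRing_stableUnderCompositionWithLocalizationAwayTarget :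
    RingHom.StableUnderCompositionWithLocalizationAwayTarget @PerfRing.{u} :=
  fun _ _ T _ _ _ _ s _ _ hf => hf.comp (perfRing_away s T)

theorem perfRing_localizationAwayPreserves : RingHom.LocalizationAwayPreserves @PerfRing.{u} := by
  intro R S _ _ f r R' S' _ _ _ _ _ _ hf
  refine perfRing_iff.mpr ⟨pcRing_localizationAwayPreserves f r R' S' (perfRing_iff.mp hf).1, ?_⟩
  obtain ⟨-, d, hd⟩ := perfRing_iff.mp (hf.comp (perfRing_away (f r) S'))
  let g := IsLocalization.Away.map R' S' f r
  letI := g.toAlgebra
  letI : Algebra R S' := ((algebraMap S S').comp f).toAlgebra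
  haveI : IsScalarTower R R' S' := IsScalarTower.of_algebraMap_eq fun x =>
    (IsLocalization.map_eq (S := R') (Q := S') (g := f) (T := Submonoid.powers (f r))
      (by rintro _ ⟨k, rfl⟩; exact ⟨k, (map_pow f r k).symm⟩ :
        Submonoid.powers r ≤ (Submonoid.powers (f r)).comap f) x).symm
  haveI : Module.Flat R R' := IsLocalization.flat R' (Submonoid.powers r)
  haveI : IsLocalizedModule (Submonoid.powers r) (LinearMap.id : S' →ₗ[R] S') :=
    isLocalizedModule_id (Submonoid.powers r) S' R'
  exact ⟨d, hasTorDimLE_of_equiv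
    (IsLocalizedModule.isBaseChange (Submonoid.powers r) R' (LinearMap.id : S' →ₗ[R] S')).equiv
    (hasTorDimLE_baseChange (B := R') (hd : DRing.HasTorDimLE R d S'))⟩

theorem perfRing_ofLocalizationSpan : RingHom.OfLocalizationSpan @PerfRing.{u} := by
  intro R S _ _ f s hs H
  refine perfRing_ofLocalizationSpanTarget f (f '' s) (by
    rw [← Ideal.map_span, hs, Ideal.map_top]) ?_
  rintro ⟨_, r, hr, rfl⟩
  show PerfRing ((algebraMap S (Localization.Away (f r))).comp f)
  rw [show (algebraMap S (Localization.Away (f r))).comp f =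
    (Localization.awayMap f r).comp (algebraMap R (Localization.Away r)) from
      (IsLocalization.map_comp _).symm]
  exact (perfRing_away r (Localization.Away r)).comp (H ⟨r, hr⟩)

theorem perfRing_propertyIsLocal : RingHom.PropertyIsLocal @PerfRing.{u} :=
  ⟨perfRing_localizationAwayPreserves, perfRing_ofLocalizationSpanTarget, perfRing_ofLocalizationSpan,
    perfRing_stableUnderCompositionWithLocalizationAwayTarget⟩

instance hasRingHomProperty_isPerfectMor :
    AlgebraicGeometry.HasRingHomProperty @MoreMor.IsPerfectMor.{u} @PerfRing.{u} where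
  isLocal_ringHomProperty := perfRing_propertyIsLocal
  eq_affineLocally' := by
    ext X Y f
    rw [AlgebraicGeometry.affineLocally_iff_affineOpens_le]
    exact ⟨fun h U V e => h V.1 U.1 V.2 U.2 e, fun h U V hU hV e => h ⟨V, hV⟩ ⟨U, hU⟩ e⟩

end Local

end Groth.Agent.H8Props.PseudoCoh
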