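import Groth.Agent.H8Props.PseudoCoh.Morphism
import Mathlib.RingTheory.AdjoinRoot
import Mathlib.RingTheory.IntegralClosure.Algebra.Basic

/-!
# Finite and surjective pseudo-coherent ring maps
-/

set_option autoImplicit false
set_option linter.style.haveILetI false
universe u

open TensorProduct

namespace Groth.Agent.H8Props.PseudoCoh

variable {A B : Type u} [CommRing A] [CommRing B] [Algebra A B]

/-- A surjective algebra is pseudo-coherent iff it is a pseudo-coherent module. -/
theorem isPseudoCoherentHom_iff_of_surjective (h : Function.Surjective (algebraMap A B)) :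
    MoreMor.IsPseudoCoherentHom A B ↔ FPInf A B := by
  let e := MvPolynomial.isEmptyAlgEquiv A PEmpty.{u + 1}
  let φ : MvPolynomial PEmpty.{u + 1} A →ₐ[A] B := (Algebra.ofId A B).comp e.toAlgHom
  have hφ : Function.Surjective φ := h.comp e.surjective
  rw [← rfp_algebraMap]
  exact ⟨fun hp => RFP.of_comp (rfp_of_bijective e.toAlgHom.toRingHom e.bijective)
    (rfp_of_isPseudoCoherentHom hp φ hφ),
    fun hr => isPseudoCoherentHom_of_presentation φ hφ
      (RFP.comp (rfp_of_bijective e.toAlgHom.toRingHom e.bijective) hr)⟩

/-- A quotient is pseudo-coherent as a module iff the ideal is. -/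
theorem fpInf_quotient_iff (I : Ideal B) : FPInf B (B ⧸ I) ↔ FPInf B I := by
  have hex : Function.Exact I.subtype (Algebra.linearMap B (B ⧸ I)) := fun x => by
    constructor
    · intro hx
      exact ⟨⟨x, Ideal.Quotient.eq_zero_iff_mem.mp hx⟩, rfl⟩
    · rintro ⟨x, rfl⟩
      exact Ideal.Quotient.eq_zero_iff_mem.mpr x.2
  constructor
  · intro h k
    exact FPk.sub I.subtype (Algebra.linearMap B (B ⧸ I)) Subtype.val_injective
      Ideal.Quotient.mk_surjective hex (fpk_of_finite_projective k B) (h (k + 1))
  · intro h k
    exact FPk.succ_imp (FPk.quot_succ I.subtype (Algebra.linearMap B (B ⧸ I)) Subtype.val_injective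
      Ideal.Quotient.mk_surjective hex (fpk_of_finite_projective (k + 1) B) (h k))

/-- A monogenic free extension by a monic polynomial. -/
theorem isPseudoCoherentHom_adjoinRoot (q : Polynomial A) (hq : q.Monic) :
    MoreMor.IsPseudoCoherentHom A (AdjoinRoot q) := by
  let u := MvPolynomial.uniqueAlgEquiv A PUnit.{u + 1}
  exact isPseudoCoherentHom_of_presentation ((AdjoinRoot.mkₐ q).comp u.toAlgHom)
    (AdjoinRoot.mk_surjective.comp u.surjective)
    (RFP.comp (rfp_of_bijective _ u.bijective)
      (rfp_of_span_singleton _ AdjoinRoot.mk_surjective q hq.mem_nonZeroDivisors Ideal.mk_ker))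

/-- A finite algebra is a quotient of a finite free pseudo-coherent algebra. -/
theorem exists_finite_free_cover [Module.Finite A B] :
    ∃ (C : Type u) (_ : CommRing C) (_ : Algebra A C) (π : C →ₐ[A] B), Function.Surjective π ∧
      Module.Finite A C ∧ Module.Free A C ∧ MoreMor.IsPseudoCoherentHom A C := by
  classical
  suffices h : ∀ s : Finset B, ∃ (C : Type u) (_ : CommRing C) (_ : Algebra A C) (π : C →ₐ[A] B),
      (∀ x ∈ s, x ∈ π.range) ∧ Module.Finite A C ∧ Module.Free A C ∧
        MoreMor.IsPseudoCoherentHom A C by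
    obtain ⟨s, hs⟩ := (Algebra.FiniteType.out (R := A) (A := B))
    obtain ⟨C, _, _, π, hπ, h1, h2, h3⟩ := h s
    refine ⟨C, inferInstance, inferInstance, π, fun b => ?_, h1, h2, h3⟩
    have hle : Algebra.adjoin A (s : Set B) ≤ π.range := Algebra.adjoin_le hπ
    rw [hs] at hle
    exact hle (Algebra.mem_top : b ∈ (⊤ : Subalgebra A B))
  intro s
  induction s using Finset.induction_on with
  | empty =>
    exact ⟨A, inferInstance, inferInstance, Algebra.ofId A B, fun x hx => absurd hx (Finset.notMem_empty x),
      inferInstance, inferInstance, pcRing_algebraMap.mp (pcRing_of_bijective _ Function.bijective_id)⟩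
  | insert x s hx ih =>
    obtain ⟨C, _, _, π, hπ, _, _, hpc⟩ := ih
    obtain ⟨p, hp, hpx⟩ := Algebra.IsIntegral.isIntegral (R := A) x
    have hq := hp.map (algebraMap A C)
    have hev : (p.map (algebraMap A C)).eval₂ π.toRingHom x = 0 := by
      rw [Polynomial.eval₂_map, show π.toRingHom.comp (algebraMap A C) = algebraMap A B from
        RingHom.ext π.commutes]
      exact hpx
    haveI := hq.free_adjoinRoot
    haveI := hq.finite_adjoinRoot
    refine ⟨AdjoinRoot (p.map (algebraMap A C)), inferInstance, inferInstance,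
      AdjoinRoot.liftAlgHom _ π x hev, fun y hy => ?_, Module.Finite.trans C _, (Module.Free.trans (R := A) (S := C)),
      isPseudoCoherentHom_comp hpc (isPseudoCoherentHom_adjoinRoot _ hq)⟩
    rcases Finset.mem_insert.mp hy with rfl | hy
    · exact ⟨AdjoinRoot.root _, by simp⟩
    · obtain ⟨c, rfl⟩ := hπ y hy
      exact ⟨AdjoinRoot.of _ c, by simp⟩

/-- For finite algebras, pseudo-coherence of the ring map and of the module agree. -/
theorem isPseudoCoherentHom_iff_of_finite [Module.Finite A B] :
    MoreMor.IsPseudoCoherentHom A B ↔ FPInf A B := by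
  obtain ⟨C, _, _, π, hπ, _, _, hC⟩ := exists_finite_free_cover (A := A) (B := B)
  letI := π.toRingHom.toAlgebra
  haveI : IsScalarTower A C B := IsScalarTower.of_algebraMap_eq fun a => (π.commutes a).symm
  rw [fpInf_restrictScalars_iff (fpInf_of_finite_projective C),
    ← isPseudoCoherentHom_iff_of_surjective (hπ : Function.Surjective (algebraMap C B))]
  exact ⟨fun h => isPseudoCoherentHom_of_comp hC h, fun h => isPseudoCoherentHom_comp hC h⟩

end Groth.Agent.H8Props.PseudoCoh
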