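import Groth.Agent.H8Props.PseudoCoh.PerfectMor
import Groth.Agent.H8Props.PseudoCoh.Finite
import Groth.Prelude.Def_LCI2
import Mathlib.Algebra.Category.ModuleCat.Biproducts
import Mathlib.LinearAlgebra.TensorProduct.Quotient

/-!
# Koszul-regular ideals give perfect quotients

The Koszul complex has finite free terms and its degree `0` homology is the quotient by the sequence.
-/

set_option autoImplicit false
set_option linter.style.haveILetI false
universe u

open CategoryTheory CategoryTheory.Limits CochainComplex TensorProduct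

namespace Groth.Agent.H8Props.PseudoCoh

attribute [local instance] HasDerivedCategory.standard

variable {A : Type u} [CommRing A]

section Cone

variable {K : CochainComplex (ModuleCat.{u} A) ℤ} (φ : K ⟶ K)

/-- The terms of a mapping cone. -/
noncomputable def coneXEquiv (i j : ℤ) (h : i + 1 = j) :
    (mappingCone φ).X i ≃ₗ[A] K.X j × K.X i :=
  LinearEquiv.ofLinearMap
    (LinearMap.prod ((mappingCone.fst φ).1.v i j h).hom ((mappingCone.snd φ).v i i (add_zero i)).hom)
    (LinearMap.coprod ((mappingCone.inl φ).v j i (by omega)).hom ((mappingCone.inr φ).f i).hom)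
    (by
      refine LinearMap.prod_ext (LinearMap.ext fun a => ?_) (LinearMap.ext fun b => ?_)
      · refine Prod.ext ?_ ?_
        · simp only [LinearMap.comp_apply, LinearMap.inl_apply, LinearMap.inr_apply, LinearMap.prod_apply,
            Function.prod_apply, LinearMap.coprod_apply, map_zero, add_zero, zero_add, LinearMap.id_apply]
          exact congrArg (fun g => g.hom a) (mappingCone.inl_v_fst_v φ j i h)
        · simp only [LinearMap.comp_apply, LinearMap.inl_apply, LinearMap.inr_apply, LinearMap.prod_apply,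
            Function.prod_apply, LinearMap.coprod_apply, map_zero, add_zero, zero_add, LinearMap.id_apply]
          exact congrArg (fun g => g.hom a) (mappingCone.inl_v_snd_v φ j i (by omega))
      · refine Prod.ext ?_ ?_
        · simp only [LinearMap.comp_apply, LinearMap.inl_apply, LinearMap.inr_apply, LinearMap.prod_apply,
            Function.prod_apply, LinearMap.coprod_apply, map_zero, add_zero, zero_add, LinearMap.id_apply]
          exact congrArg (fun g => g.hom b) (mappingCone.inr_f_fst_v φ i j h)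
        · simp only [LinearMap.comp_apply, LinearMap.inl_apply, LinearMap.inr_apply, LinearMap.prod_apply,
            Function.prod_apply, LinearMap.coprod_apply, map_zero, add_zero, zero_add, LinearMap.id_apply]
          exact congrArg (fun g => g.hom b) (mappingCone.inr_f_snd_v φ i))
    (LinearMap.ext fun x => by
      simpa using congrArg (fun g => g.hom x) (mappingCone.id_X φ i j h))

theorem snd_d (i j : ℤ) (h : i + 1 = j) (x : (mappingCone φ).X i) :
    ((mappingCone.snd φ).v j j (add_zero j)).hom ((mappingCone φ).d i j x) =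
      φ.f j (((mappingCone.fst φ).1.v i j h).hom x) +
        K.d i j (((mappingCone.snd φ).v i i (add_zero i)).hom x) := by
  simpa using congrArg (fun g => g.hom x) (mappingCone.d_snd_v φ i j h)

end Cone

theorem koszul_isZero : ∀ (l : List A) (i : ℤ), i < -(l.length : ℤ) ∨ 0 < i →
    IsZero ((Koszul.koszul A l).X i)
  | [], i, hi => by
    refine HomologicalComplex.isZero_single_obj_X _ _ _ _ ?_
    simp only [List.length_nil, Nat.cast_zero, neg_zero] at hi
    omega
  | f :: l, i, hi => by
    simp only [List.length_cons, Nat.cast_succ] at hi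
    refine (mappingCone.isZero_X_iff _ i).mpr ⟨koszul_isZero l _ ?_, koszul_isZero l i ?_⟩ <;> omega

theorem koszul_finite_free : ∀ (l : List A) (i : ℤ),
    Module.Finite A ((Koszul.koszul A l).X i) ∧ Module.Free A ((Koszul.koszul A l).X i)
  | [], i => by
    by_cases hi : i = 0
    · subst hi
      have e : ((Koszul.koszul A []).X 0) ≃ₗ[A] A :=
        (HomologicalComplex.singleObjXSelf (ComplexShape.up ℤ) 0 (ModuleCat.of A A)).toLinearEquiv
      exact ⟨Module.Finite.equiv e.symm, Module.Free.of_equiv e.symm⟩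
    · haveI := ModuleCat.subsingleton_of_isZero
        (koszul_isZero ([] : List A) i (by simp only [List.length_nil, Nat.cast_zero, neg_zero]; omega))
      exact ⟨inferInstance, inferInstance⟩
  | f :: l, i => by
    obtain ⟨_, _⟩ := koszul_finite_free l (i + 1)
    obtain ⟨_, _⟩ := koszul_finite_free l i
    let e : (Koszul.koszul A (f :: l)).X i ≃ₗ[A]
        (Koszul.koszul A l).X (i + 1) × (Koszul.koszul A l).X i :=
      coneXEquiv (f • 𝟙 (Koszul.koszul A l)) i (i + 1) rfl
    exact ⟨Module.Finite.equiv e.symm, Module.Free.of_equiv e.symm⟩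

/-- The degree zero term is the ring and the boundaries are the ideal of the sequence. -/
theorem koszul_zero : ∀ l : List A, ∃ ε : (Koszul.koszul A l).X 0 ≃ₗ[A] A,
    (LinearMap.range ((Koszul.koszul A l).d (-1) 0).hom).map ε.toLinearMap = Ideal.ofList l
  | [] => by
    refine ⟨(HomologicalComplex.singleObjXSelf (ComplexShape.up ℤ) 0 (ModuleCat.of A A)).toLinearEquiv, ?_⟩
    haveI := ModuleCat.subsingleton_of_isZero (koszul_isZero ([] : List A) (-1) (by simp))
    rw [Ideal.ofList_nil, eq_bot_iff]
    rintro _ ⟨_, ⟨y, rfl⟩, rfl⟩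
    rw [Subsingleton.elim y 0, map_zero, map_zero]
    exact zero_mem _
  | f :: l => by
    obtain ⟨ε, hε⟩ := koszul_zero l
    haveI := ModuleCat.subsingleton_of_isZero (koszul_isZero l 1 (Or.inr one_pos))
    let φ := f • 𝟙 (Koszul.koszul A l)
    let c0 : (Koszul.koszul A (f :: l)).X 0 ≃ₗ[A] (Koszul.koszul A l).X 1 × (Koszul.koszul A l).X 0 :=
      coneXEquiv φ 0 1 rfl
    let p : ((Koszul.koszul A l).X 1 × (Koszul.koszul A l).X 0) ≃ₗ[A] (Koszul.koszul A l).X 0 :=
      LinearEquiv.ofBijective (LinearMap.snd A ((Koszul.koszul A l).X 1 : ModuleCat.{u} A) ((Koszul.koszul A l).X 0 : ModuleCat.{u} A))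
        ⟨fun a b h => Prod.ext (Subsingleton.elim _ _) h, fun b => ⟨(0, b), rfl⟩⟩
    refine ⟨(c0.trans p).trans ε, ?_⟩
    have hd : ∀ x, ε (p (c0 ((Koszul.koszul A (f :: l)).d (-1) 0 x))) =
        f * ε ((coneXEquiv φ (-1) 0 (by omega) x).1) +
          ε ((Koszul.koszul A l).d (-1) 0 (coneXEquiv φ (-1) 0 (by omega) x).2) := fun x => by
      show ε (((mappingCone.snd φ).v 0 0 (add_zero 0)).hom ((mappingCone φ).d (-1) 0 x)) = _
      rw [snd_d φ (-1) 0 (by omega), map_add]
      congr 1
      show ε (f • _) = _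
      rw [map_smul, smul_eq_mul]
      rfl
    refine le_antisymm ?_ ?_
    · rintro _ ⟨_, ⟨x, rfl⟩, rfl⟩
      show ε (p (c0 _)) ∈ _
      rw [hd, Ideal.ofList_cons]
      refine Submodule.add_mem_sup (Ideal.mul_mem_right _ _ (Ideal.subset_span rfl)) ?_
      rw [← hε]
      exact ⟨_, ⟨_, rfl⟩, rfl⟩
    · rw [Ideal.ofList_cons, sup_le_iff, Ideal.span_singleton_le_iff_mem]
      refine ⟨?_, fun z hz => ?_⟩
      · obtain ⟨x, hx⟩ := (coneXEquiv φ (-1) 0 (by omega)).surjective (ε.symm 1, 0)
        refine ⟨_, ⟨x, rfl⟩, ?_⟩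
        show ε (p (c0 _)) = f
        rw [hd, hx]
        simp
      · rw [← hε] at hz
        obtain ⟨_, ⟨y, rfl⟩, rfl⟩ := hz
        obtain ⟨x, hx⟩ := (coneXEquiv φ (-1) 0 (by omega)).surjective (0, y)
        refine ⟨_, ⟨x, rfl⟩, ?_⟩
        show ε (p (c0 _)) = _
        rw [hd, hx]
        simp

/-- A quotient by a Koszul-regular sequence is perfect. -/
theorem fpInf_torDim_of_koszulRegular (l : List A) (h : LCI.IsKoszulRegularSeq A l) :
    FPInf A (A ⧸ Ideal.ofList l) ∧ DRing.HasFiniteTorDim A (A ⧸ Ideal.ofList l) := by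
  let E : DRing.Cx A := Koszul.koszul A l
  obtain ⟨h1, n, h2⟩ := fpInf_and_torDim_homology E (-(l.length : ℤ)) 0 (koszul_isZero l)
    (fun i => ⟨(koszul_finite_free l i).1, haveI := (koszul_finite_free l i).2; inferInstance⟩)
    (fun i j k hij hjk hj => by
      rw [← HomologicalComplex.exactAt_iff' E i j k (by simp; omega) (by simp; omega),
        HomologicalComplex.exactAt_iff_isZero_homology]
      exact h j hj)
  obtain ⟨ε, hε⟩ := koszul_zero l
  haveI := ModuleCat.subsingleton_of_isZero (koszul_isZero l 1 (Or.inr one_pos))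
  let q : LinearMap.ker (E.d 0 1).hom →ₗ[A] A ⧸ Ideal.ofList l :=
    (Submodule.mkQ (Ideal.ofList l)) ∘ₗ ε.toLinearMap ∘ₗ (LinearMap.ker (E.d 0 1).hom).subtype
  have hq : Function.Surjective q := fun y => by
    obtain ⟨a, rfl⟩ := Submodule.Quotient.mk_surjective _ y
    exact ⟨⟨ε.symm a, Subsingleton.elim (α := (Koszul.koszul A l).X 1) _ _⟩,
      congrArg (Submodule.mkQ (Ideal.ofList l)) (ε.apply_symm_apply a)⟩
  let e := (Submodule.quotEquivOfEq ((LinearMap.range (E.d (-1) 0).hom).submoduleOf
    (LinearMap.ker (E.d 0 1).hom)) (LinearMap.ker q) (by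
      ext z
      rw [LinearMap.mem_ker]
      show z.1 ∈ LinearMap.range (E.d (-1) 0).hom ↔ Submodule.Quotient.mk (ε z.1) = 0
      rw [Submodule.Quotient.mk_eq_zero, ← hε]
      exact ⟨fun hz => ⟨_, hz, rfl⟩, fun ⟨w, hw, hwz⟩ => ε.injective hwz ▸ hw⟩)).trans
    (q.quotKerEquivOfSurjective hq)
  exact ⟨fun k => (h1 k).of_equiv e, n, hasTorDimLE_of_equiv e h2⟩

/-- Localised quotient. -/
noncomputable def awayQuotientEquiv (g : A) (I : Ideal A) :
    Localization.Away g ⊗[A] (A ⧸ I) ≃ₗ[Localization.Away g]
      Localization.Away g ⧸ I.map (algebraMap A (Localization.Away g)) :=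
  LinearEquiv.extendScalarsOfIsLocalization (Submonoid.powers g) (Localization.Away g)
    ((TensorProduct.tensorQuotEquivQuotSMul (Localization.Away g) I).trans
      ((Submodule.quotEquivOfEq _
        ((I.map (algebraMap A (Localization.Away g))).restrictScalars A) (Ideal.smul_top_eq_map I)).trans
        ((Submodule.Quotient.restrictScalarsEquiv A (I.map (algebraMap A (Localization.Away g)))).restrictScalars A)))

/-- A Koszul-regular ideal has a perfect quotient. -/
theorem fpInf_torDim_of_isKoszulRegularIdeal (I : Ideal A) (h : LCI.IsKoszulRegularIdeal I) :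
    FPInf A (A ⧸ I) ∧ DRing.HasFiniteTorDim A (A ⧸ I) := by
  let good : Set A := {g | FPInf (Localization.Away g) (Localization.Away g ⊗[A] (A ⧸ I)) ∧
    DRing.HasFiniteTorDim (Localization.Away g) (Localization.Away g ⊗[A] (A ⧸ I))}
  have hgood : Ideal.span good = ⊤ := by
    by_contra hne
    obtain ⟨m, hm, hle⟩ := Ideal.exists_le_maximal _ hne
    by_cases hI : I ≤ m
    · obtain ⟨g, hg, l, hl, hIl⟩ := h ⟨m, hm.isPrime⟩ hI
      obtain ⟨h1, n, h2⟩ := fpInf_torDim_of_koszulRegular l hl
      let e := ((Submodule.quotEquivOfEq _ (Ideal.ofList l) hIl).symm.trans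
        (awayQuotientEquiv g I).symm)
      exact hg (hle (Ideal.subset_span ⟨fun k => (h1 k).of_equiv e, n, hasTorDimLE_of_equiv e h2⟩))
    · obtain ⟨g, hgI, hgm⟩ := SetLike.not_le_iff_exists.mp hI
      haveI : Subsingleton (Localization.Away g ⊗[A] (A ⧸ I)) := by
        have h1 : I.map (algebraMap A (Localization.Away g)) = ⊤ :=
          Ideal.eq_top_of_isUnit_mem _ (Ideal.mem_map_of_mem _ hgI)
            (IsLocalization.Away.algebraMap_isUnit g)
        haveI : Subsingleton (Localization.Away g ⧸ I.map (algebraMap A (Localization.Away g))) :=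
          Ideal.Quotient.subsingleton_iff.mpr h1
        exact (awayQuotientEquiv g I).toEquiv.subsingleton
      exact hgm (hle (Ideal.subset_span ⟨fun k => fpk_of_subsingleton k _, 0, hasTorDimLE_of_flat 0 _⟩))
  obtain ⟨s, hs, hspan⟩ := (Ideal.span_eq_top_iff_finite good).mp hgood
  refine ⟨FPInf.of_span (s : Set A) hspan fun g hg => (hs hg).1, ?_⟩
  choose d hd using fun g : s => (hs g.2).2
  refine ⟨Finset.univ.sup d, hasTorDimLE_descent (fun g : s => Localization.Away (g : A))
    (fun N _ _ hN => ?_) fun g => hasTorDimLE_mono (Finset.le_sup (Finset.mem_univ g)) (hd g)⟩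
  refine Module.flat_of_isLocalized_span A N (s : Set A) hspan
    (fun g : (s : Set A) => Localization.Away (g : A) ⊗[A] N)
    (fun g : (s : Set A) => TensorProduct.mk A (Localization.Away (g : A)) N 1) fun g => ?_
  haveI := hN g
  exact Module.Flat.trans A (Localization.Away (g : A)) _

/-- A local complete intersection ring map is perfect. -/
theorem isPerfectHom_of_isLCI {B : Type u} [CommRing B] [Algebra A B] (h : LCI.IsLCI A B) :
    MoreMor.IsPerfectHom A B := by
  obtain ⟨-, n, f, hf, hI⟩ := h
  letI := f.toRingHom.toAlgebra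
  haveI : IsScalarTower A (MvPolynomial (Fin n) A) B :=
    IsScalarTower.of_algebraMap_eq fun a => (f.commutes a).symm
  obtain ⟨h1, m, h2⟩ := fpInf_torDim_of_isKoszulRegularIdeal _ hI
  let e : (MvPolynomial (Fin n) A ⧸ RingHom.ker f.toRingHom) ≃ₗ[MvPolynomial (Fin n) A] B :=
    (Submodule.quotEquivOfEq _ (LinearMap.ker (Algebra.linearMap (MvPolynomial (Fin n) A) B)) rfl).trans
      ((Algebra.linearMap (MvPolynomial (Fin n) A) B).quotKerEquivOfSurjective hf)
  exact ⟨isPseudoCoherentHom_iff.mpr ⟨n, f, hf, fun k => (h1 k).of_equiv e⟩, m,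
    hasTorDimLE_restrictScalars (hasTorDimLE_of_equiv e h2)⟩

end Groth.Agent.H8Props.PseudoCoh
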