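import Groth.Agent.H8Props.PseudoCoh.PerfectMor
import Groth.Agent.H8Props.PseudoCoh.Finite
import Groth.Agent.H05EGA4.Regular
import Mathlib.RingTheory.Regular.RegularSequence
import Mathlib.RingTheory.Ideal.Height

/-!
# Perfect quotients by regular sequences; finite type algebras over regular rings
-/

set_option autoImplicit false
set_option linter.style.haveILetI false
universe u

open TensorProduct CategoryTheory

namespace Groth.Agent.H8Props.PseudoCoh

variable {A : Type u} [CommRing A]

theorem hasTorDimLE_of_hasProjectiveDimensionLT : ∀ (n : ℕ) (M : Type u) [AddCommGroup M] [Module A M],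
    HasProjectiveDimensionLT (ModuleCat.of A M) (n + 1) → DRing.HasTorDimLE A n M
  | 0, M, _, _, h => by
    haveI : Projective (ModuleCat.of A M) := projective_iff_hasProjectiveDimensionLT_one.mpr h
    haveI : Module.Projective A (ModuleCat.of A M) := (ModuleCat.of A M).projective_of_module_projective
    haveI : Module.Projective A M := inferInstanceAs (Module.Projective A (ModuleCat.of A M))
    exact hasTorDimLE_of_flat 0 M
  | n + 1, M, _, _, h => by
    let f := Finsupp.linearCombination A (id : M → M)
    have hf : Function.Surjective f := exists_free_surjective (A := A) M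
    haveI : Projective (ModuleCat.of A (M →₀ A)) :=
      ModuleCat.projective_of_categoryTheory_projective _
    have hinj : Function.Injective (LinearMap.ker f).subtype := Subtype.val_injective
    have hex : Function.Exact (LinearMap.ker f).subtype f := LinearMap.exact_subtype_ker_map f
    have hS := seq_shortExact (M' := LinearMap.ker f) (M := M →₀ A) (M'' := M) (i := (LinearMap.ker f).subtype) (p := f) hinj hf hex
    haveI h2 : HasProjectiveDimensionLT (ModuleCat.of A (M →₀ A)) (n + 1) :=
      hasProjectiveDimensionLT_of_ge _ 1 (n + 1) (Nat.le_add_left 1 n)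
    exact (hasTorDimLE_succ_iff f hf).mpr (hasTorDimLE_of_hasProjectiveDimensionLT n (LinearMap.ker f)
      (hS.hasProjectiveDimensionLT_X₁ (n + 1) h2 h))

/-- A quotient by a weakly regular sequence. -/
theorem fpInf_torDim_quotient_smul : ∀ (rs : List A) (M : Type u) [AddCommGroup M] [Module A M] (m : ℕ),
    RingTheory.Sequence.IsWeaklyRegular M rs → FPInf A M → DRing.HasTorDimLE A m M →
      FPInf A (M ⧸ (Ideal.ofList rs • ⊤ : Submodule A M)) ∧
        DRing.HasTorDimLE A (m + rs.length) (M ⧸ (Ideal.ofList rs • ⊤ : Submodule A M))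
  | [], M, _, _, m, _, h, hm => by
    let e : M ≃ₗ[A] M ⧸ (Ideal.ofList ([] : List A) • ⊤ : Submodule A M) :=
      (Submodule.quotEquivOfEqBot _ (by simp)).symm
    exact ⟨fun k => (h k).of_equiv e, hasTorDimLE_of_equiv e hm⟩
  | r :: rs, M, _, _, m, hreg, h, hm => by
    obtain ⟨hr, hrs⟩ := (RingTheory.Sequence.isWeaklyRegular_cons_iff M r rs).mp hreg
    let p : M →ₗ[A] QuotSMulTop r M := Submodule.mkQ _
    have hp : Function.Surjective p := Submodule.Quotient.mk_surjective _
    have hex : Function.Exact (LinearMap.lsmul A M r) p := fun x => by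
      rw [Submodule.mkQ_apply, Submodule.Quotient.mk_eq_zero, Submodule.mem_smul_pointwise_iff_exists]
      simp only [Submodule.mem_top, true_and]
      rfl
    have h1 : FPInf A (QuotSMulTop r M) := fun k =>
      FPk.succ_imp (FPk.quot_succ (LinearMap.lsmul A M r) p hr hp hex (h (k + 1)) (h k))
    have h2 : DRing.HasTorDimLE A (m + 1) (QuotSMulTop r M) :=
      hasTorDimLE_quot (i := LinearMap.lsmul A M r) hr hp hex (hasTorDimLE_mono (Nat.le_succ m) hm) hm
    obtain ⟨h3, h4⟩ := fpInf_torDim_quotient_smul rs (QuotSMulTop r M) (m + 1) hrs h1 h2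
    let e := (Submodule.quotOfListConsSMulTopEquivQuotSMulTopInner M r rs).symm
    refine ⟨fun k => (h3 k).of_equiv e, hasTorDimLE_mono ?_ (hasTorDimLE_of_equiv e h4)⟩
    simp only [List.length_cons]; omega

variable {B : Type u} [CommRing B] [Algebra A B]

/-- A surjection with kernel generated by a weakly regular sequence is perfect. -/
theorem isPerfectHom_of_regular_kernel (hs : Function.Surjective (algebraMap A B)) (rs : List A)
    (hreg : RingTheory.Sequence.IsWeaklyRegular A rs)
    (hker : RingHom.ker (algebraMap A B) = Ideal.ofList rs) : MoreMor.IsPerfectHom A B := by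
  obtain ⟨h1, h2⟩ := fpInf_torDim_quotient_smul rs A 0 hreg (fpInf_of_finite_projective A)
    (hasTorDimLE_of_flat 0 A)
  let e : (A ⧸ (Ideal.ofList rs • ⊤ : Submodule A A)) ≃ₗ[A] B :=
    (Submodule.quotEquivOfEq _ (LinearMap.ker (Algebra.linearMap A B)) (by
      rw [Ideal.smul_top_eq_map, Algebra.algebraMap_self, Ideal.map_id, Submodule.restrictScalars_self]
      exact hker.symm)).trans ((Algebra.linearMap A B).quotKerEquivOfSurjective hs)
  exact ⟨(isPseudoCoherentHom_iff_of_surjective hs).mpr fun k => (h1 k).of_equiv e,
    _, hasTorDimLE_of_equiv e h2⟩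

/-- All modules over a regular ring of dimension at most `d` have tor dimension at most `d`. -/
theorem hasTorDimLE_of_isRegularRing [IsRegularRing A] {d : ℕ} (hd : ringKrullDim A ≤ d)
    (M : Type u) [AddCommGroup M] [Module A M] : DRing.HasTorDimLE A d M := by
  refine hasTorDimLE_descent (fun m : MaximalSpectrum A => Localization.AtPrime m.asIdeal)
    (fun N _ _ hN => ?_) fun m => ?_
  · refine Module.flat_of_localized_maximal N fun P hP => ?_
    haveI : Module.Flat (Localization.AtPrime P) (Localization.AtPrime P ⊗[A] N) := hN ⟨P, hP⟩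
    haveI : Module.Flat A (Localization.AtPrime P ⊗[A] N) :=
      Module.Flat.trans A (Localization.AtPrime P) _
    exact Module.Flat.of_linearEquiv ((IsLocalizedModule.isBaseChange P.primeCompl (Localization.AtPrime P)
      (LocalizedModule.mkLinearMap P.primeCompl N)).equiv.restrictScalars A).symm
  · haveI : IsRegularLocalRing (Localization.AtPrime m.asIdeal) :=
      isRegularRing_iff.1 (inferInstance : IsRegularRing A) m.asIdeal
    obtain ⟨e, he, hk⟩ := H05EGA4.exists_pd_residueField (Localization.AtPrime m.asIdeal)
    have hle : e ≤ d := by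
      have h1 : ringKrullDim (Localization.AtPrime m.asIdeal) ≤ d :=
        (IsLocalization.AtPrime.ringKrullDim_eq_height m.asIdeal (Localization.AtPrime m.asIdeal)).le.trans
          (Ideal.height_le_ringKrullDim_of_isPrime.trans hd)
      rw [he] at h1
      exact_mod_cast h1
    exact hasTorDimLE_mono hle (hasTorDimLE_of_hasProjectiveDimensionLT e _
      (H05EGA4.hasProjectiveDimensionLT_of_residueField e hk _))

theorem exists_natCast_ge_ringKrullDim (h : ringKrullDim A < ⊤) : ∃ d : ℕ, ringKrullDim A ≤ d := by
  generalize ringKrullDim A = x at h ⊢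
  rcases x with _ | _ | d
  · exact ⟨0, bot_le⟩
  · exact absurd h (lt_irrefl _)
  · exact ⟨d, le_rfl⟩

theorem isPerfectHom_of_isRegularRing [IsRegularRing A] (hdim : ringKrullDim A < ⊤)
    [Algebra.FiniteType A B] : MoreMor.IsPerfectHom A B := by
  obtain ⟨d, hd⟩ := exists_natCast_ge_ringKrullDim hdim
  exact ⟨isPseudoCoherentHom_of_isNoetherianRing, d, hasTorDimLE_of_isRegularRing hd B⟩

end Groth.Agent.H8Props.PseudoCoh
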