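import Mathlib.Algebra.Module.FinitePresentation
import Mathlib.RingTheory.Finiteness.Finsupp
import Mathlib.Algebra.Module.Projective
import Mathlib.RingTheory.Noetherian.Basic
import Mathlib.Algebra.Exact

/-!
# Modules with finite free syzygies up to a given step

`FPk A k M`: `M` is finite and, for `k > 0`, the kernel of some surjection from a finite free module
onto it satisfies `FPk A (k - 1)`. Thus `FPk A 1` is finite presentation and `FPInf A M` says that
`M` has a resolution by finite free modules. Exact sequence lemmas, independence of the chosen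
surjection, and restriction of scalars along an algebra.
-/

set_option autoImplicit false
universe u

namespace Groth.Agent.H8Props.PseudoCoh

/-- `M` is finite with `k` further steps of finitely generated syzygies. -/
def FPk (A : Type u) [CommRing A] : ℕ → ∀ (M : Type u) [AddCommGroup M] [Module A M], Prop
  | 0, M, _, _ => Module.Finite A M
  | k + 1, M, _, _ => ∃ (n : ℕ) (f : (Fin n → A) →ₗ[A] M),
      Function.Surjective f ∧ FPk A k (LinearMap.ker f)

/-- `M` has finitely generated syzygies of all orders. -/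
def FPInf (A : Type u) [CommRing A] (M : Type u) [AddCommGroup M] [Module A M] : Prop :=
  ∀ k, FPk A k M

variable {A : Type u} [CommRing A]

theorem FPk.of_equiv {M N : Type u} [AddCommGroup M] [Module A M] [AddCommGroup N] [Module A N]
    (e : M ≃ₗ[A] N) : ∀ {k : ℕ}, FPk A k M → FPk A k N
  | 0, h => haveI : Module.Finite A M := h; Module.Finite.equiv e
  | k + 1, ⟨n, f, hf, h⟩ =>
    ⟨n, e.toLinearMap ∘ₗ f, e.surjective.comp hf, by rw [LinearEquiv.ker_comp]; exact h⟩

theorem FPk.succ_imp : ∀ {k : ℕ} {M : Type u} [AddCommGroup M] [Module A M],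
    FPk A (k + 1) M → FPk A k M
  | 0, _, _, _, ⟨_, f, hf, _⟩ => Module.Finite.of_surjective f hf
  | _ + 1, _, _, _, ⟨n, f, hf, h⟩ => ⟨n, f, hf, FPk.succ_imp h⟩

theorem FPk.finite : ∀ {k : ℕ} {M : Type u} [AddCommGroup M] [Module A M],
    FPk A k M → Module.Finite A M
  | 0, _, _, _, h => h
  | _ + 1, _, _, _, h => FPk.finite (FPk.succ_imp h)

theorem FPk.mono {M : Type u} [AddCommGroup M] [Module A M] {k l : ℕ} (hkl : k ≤ l)
    (h : FPk A l M) : FPk A k M := by
  induction hkl with
  | refl => exact h
  | step _ ih => exact ih h.succ_imp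

theorem fpk_of_subsingleton : ∀ (k : ℕ) (M : Type u) [AddCommGroup M] [Module A M] [Subsingleton M],
    FPk A k M
  | 0, M, _, _, _ => show Module.Finite A M from inferInstance
  | k + 1, M, _, _, _ =>
    ⟨0, 0, fun _ => ⟨0, Subsingleton.elim _ _⟩, fpk_of_subsingleton k _⟩

theorem fpk_pi (n : ℕ) : ∀ k, FPk A k (Fin n → A)
  | 0 => show Module.Finite A _ from inferInstance
  | k + 1 => ⟨n, LinearMap.id, Function.surjective_id, by
      haveI : Subsingleton (LinearMap.ker (LinearMap.id : (Fin n → A) →ₗ[A] (Fin n → A))) := by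
        rw [LinearMap.ker_id]; infer_instance
      exact fpk_of_subsingleton k _⟩

/-- Constructor from a surjection out of a module isomorphic to a finite free one. -/
theorem FPk.succ_of_surjective {M F : Type u} [AddCommGroup M] [Module A M] [AddCommGroup F]
    [Module A F] {n k : ℕ} (e : (Fin n → A) ≃ₗ[A] F) (f : F →ₗ[A] M) (hf : Function.Surjective f)
    (h : FPk A k (LinearMap.ker f)) : FPk A (k + 1) M :=
  ⟨n, f ∘ₗ e.toLinearMap, hf.comp e.surjective, h.of_equiv (LinearEquiv.ofSubmodule' e (LinearMap.ker f)).symm⟩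

/-- An extension of modules with `k` steps of finite syzygies has the same property. -/
theorem FPk.ext : ∀ {k : ℕ} {M' M M'' : Type u} [AddCommGroup M'] [Module A M'] [AddCommGroup M]
    [Module A M] [AddCommGroup M''] [Module A M''] (i : M' →ₗ[A] M) (p : M →ₗ[A] M''),
    Function.Injective i → Function.Surjective p → Function.Exact i p →
    FPk A k M' → FPk A k M'' → FPk A k M
  | 0, M', M, M'', _, _, _, _, _, _, i, p, _, hp, he, h', h'' => by
    haveI : Module.Finite A M' := h'
    haveI : Module.Finite A M'' := h''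
    exact Module.Finite.of_exact he hp
  | k + 1, M', M, M'', _, _, _, _, _, _, i, p, hi, hp, he, ⟨n, f, hf, h'⟩, ⟨m, g, hg, h''⟩ => by
    obtain ⟨l, hl⟩ := Module.projective_lifting_property p g hp
    let F := (Fin n → A) × (Fin m → A)
    let q : F →ₗ[A] M := LinearMap.coprod (i ∘ₗ f) l
    have hq : Function.Surjective q := fun x => by
      obtain ⟨b, hb⟩ := hg (p x)
      obtain ⟨y, hy⟩ := (he (x - l b)).mp (by
        rw [map_sub, show p (l b) = g b from LinearMap.congr_fun hl b, hb, sub_self])
      obtain ⟨a, rfl⟩ := hf y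
      exact ⟨(a, b), show i (f a) + l b = x by rw [hy, sub_add_cancel]⟩
    refine FPk.succ_of_surjective
      (((LinearEquiv.funCongrLeft A A finSumFinEquiv).trans (LinearEquiv.sumArrowLequivProdArrow _ _ A A))) q hq ?_
    let j : LinearMap.ker f →ₗ[A] LinearMap.ker q :=
      ((LinearMap.inl A (Fin n → A) (Fin m → A)) ∘ₗ (LinearMap.ker f).subtype).codRestrict _
        fun a => by simp [q, LinearMap.mem_ker.mp a.2]
    let r : LinearMap.ker q →ₗ[A] LinearMap.ker g :=
      ((LinearMap.snd A (Fin n → A) (Fin m → A)) ∘ₗ (LinearMap.ker q).subtype).codRestrict _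
        fun a => by
          have h0 : i (f a.1.1) + l a.1.2 = 0 := a.2
          have h1 := congrArg p h0
          rw [map_add, he.apply_apply_eq_zero, zero_add, map_zero,
            show p (l a.1.2) = g a.1.2 from LinearMap.congr_fun hl _] at h1
          exact h1
    refine FPk.ext j r (fun a b hab => Subtype.ext (congrArg Prod.fst (congrArg Subtype.val hab))) ?_ ?_ h' h''
    · intro b
      obtain ⟨y, hy⟩ := (he (l b.1)).mp (by
        rw [show p (l b.1) = g b.1 from LinearMap.congr_fun hl _]; exact b.2)
      obtain ⟨a, rfl⟩ := hf y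
      exact ⟨⟨(-a, b.1), show i (f (-a)) + l b.1 = 0 by rw [map_neg, map_neg, hy, neg_add_cancel]⟩, Subtype.ext rfl⟩
    · intro z
      constructor
      · intro hz
        have hz2 : z.1.2 = 0 := congrArg Subtype.val hz
        have h0 : i (f z.1.1) + l z.1.2 = 0 := z.2
        rw [hz2, map_zero, add_zero] at h0
        exact ⟨⟨z.1.1, hi (h0.trans (map_zero i).symm)⟩, Subtype.ext (Prod.ext rfl hz2.symm)⟩
      · rintro ⟨a, rfl⟩
        rfl

theorem fpk_prod {M N : Type u} [AddCommGroup M] [Module A M] [AddCommGroup N] [Module A N]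
    {k : ℕ} (hM : FPk A k M) (hN : FPk A k N) : FPk A k (M × N) :=
  FPk.ext (LinearMap.inl A M N) (LinearMap.snd A M N) LinearMap.inl_injective
    LinearMap.snd_surjective Function.Exact.inl_snd hM hN

/-- A quotient by a module with `k` steps of finite syzygies of one with `k + 1`. -/
theorem FPk.quot_succ {M' M M'' : Type u} [AddCommGroup M'] [Module A M'] [AddCommGroup M]
    [Module A M] [AddCommGroup M''] [Module A M''] (i : M' →ₗ[A] M) (p : M →ₗ[A] M'')
    (hi : Function.Injective i) (hp : Function.Surjective p) (he : Function.Exact i p) {k : ℕ}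
    (h : FPk A (k + 1) M) (h' : FPk A k M') : FPk A (k + 1) M'' := by
  obtain ⟨n, f, hf, hK⟩ := h
  refine ⟨n, p ∘ₗ f, hp.comp hf, ?_⟩
  let e := LinearEquiv.ofInjective i hi
  let fr : LinearMap.ker (p ∘ₗ f) →ₗ[A] LinearMap.range i :=
    (f ∘ₗ (LinearMap.ker (p ∘ₗ f)).subtype).codRestrict _ fun a => (he _).mp a.2
  refine FPk.ext (Submodule.inclusion (LinearMap.ker_le_ker_comp f p)) (e.symm.toLinearMap ∘ₗ fr)
    (Submodule.inclusion_injective _) (e.symm.surjective.comp ?_) ?_ hK h'
  · intro y
    obtain ⟨a, ha⟩ := hf y.1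
    exact ⟨⟨a, by
      show p (f a) = 0
      rw [ha]; exact (he _).mpr y.2⟩, Subtype.ext ha⟩
  · intro z
    constructor
    · intro hz
      have : fr z = 0 := e.symm.map_eq_zero_iff.mp hz
      exact ⟨⟨z.1, congrArg Subtype.val this⟩, Subtype.ext rfl⟩
    · rintro ⟨a, rfl⟩
      show e.symm (fr _) = 0
      rw [show fr (Submodule.inclusion _ a) = 0 from Subtype.ext a.2, map_zero]

/-- The kernel of any surjection from a finite projective module loses one step. -/
theorem FPk.ker_of_succ {M F : Type u} [AddCommGroup M] [Module A M] [AddCommGroup F] [Module A F]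
    [Module.Projective A F] (f : F →ₗ[A] M) (hf : Function.Surjective f)
    {k : ℕ} (hF : FPk A k F) (h : FPk A (k + 1) M) : FPk A k (LinearMap.ker f) := by
  obtain ⟨n, g, hg, hK⟩ := h
  let P := LinearMap.ker (f ∘ₗ LinearMap.fst A F (Fin n → A) - g ∘ₗ LinearMap.snd A F (Fin n → A))
  have hmem : ∀ z : P, f z.1.1 = g z.1.2 := fun z => sub_eq_zero.mp z.2
  have hP : FPk A k P := by
    refine FPk.ext ((LinearMap.inr A F (Fin n → A) ∘ₗ (LinearMap.ker g).subtype).codRestrict P
        fun a => by simp [P, LinearMap.mem_ker.mp a.2]) (LinearMap.fst A F (Fin n → A) ∘ₗ P.subtype)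
      (fun a b hab => Subtype.ext (congrArg Prod.snd (congrArg Subtype.val hab))) ?_ ?_ hK hF
    · intro x
      obtain ⟨b, hb⟩ := hg (f x)
      exact ⟨⟨(x, b), by simp [P, hb]⟩, rfl⟩
    · intro z
      constructor
      · intro hz
        have hz1 : z.1.1 = 0 := hz
        exact ⟨⟨z.1.2, by rw [LinearMap.mem_ker, ← hmem z, hz1, map_zero]⟩,
          Subtype.ext (Prod.ext hz1.symm rfl)⟩
      · rintro ⟨a, rfl⟩
        rfl
  have hsurj : Function.Surjective (LinearMap.snd A F (Fin n → A) ∘ₗ P.subtype) := fun b => by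
    obtain ⟨x, hx⟩ := hf (g b)
    exact ⟨⟨(x, b), by simp [P, hx]⟩, rfl⟩
  obtain ⟨s, hs⟩ := Module.projective_lifting_property _ LinearMap.id hsurj
  have hs' : ∀ b, (s b).1.2 = b := fun b => LinearMap.congr_fun hs b
  let r : P →ₗ[A] LinearMap.ker f :=
    ((LinearMap.fst A F (Fin n → A) ∘ₗ P.subtype) ∘ₗ
      (LinearMap.id - s ∘ₗ (LinearMap.snd A F (Fin n → A) ∘ₗ P.subtype))).codRestrict _ fun z => by
        simp [LinearMap.mem_ker, hmem, hs']
  have hr : Function.Surjective r := fun x => ⟨⟨(x.1, 0), by simp [P, LinearMap.mem_ker.mp x.2]⟩, by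
    apply Subtype.ext; simp [r]⟩
  cases k with
  | zero =>
    haveI : Module.Finite A P := hP
    exact Module.Finite.of_surjective r hr
  | succ k =>
    refine FPk.quot_succ s r (fun a b hab => by rw [← hs' a, hab, hs']) hr ?_ hP (fpk_pi n k)
    intro z
    constructor
    · intro hz
      have h0 : z.1.1 - (s z.1.2).1.1 = 0 := congrArg Subtype.val hz
      exact ⟨z.1.2, Subtype.ext (Prod.ext (sub_eq_zero.mp h0).symm (hs' _))⟩
    · rintro ⟨b, rfl⟩
      apply Subtype.ext
      simp [r, hs']

/-- A submodule with one more step on the quotient side. -/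
theorem FPk.sub {M' M M'' : Type u} [AddCommGroup M'] [Module A M'] [AddCommGroup M]
    [Module A M] [AddCommGroup M''] [Module A M''] (i : M' →ₗ[A] M) (p : M →ₗ[A] M'')
    (hi : Function.Injective i) (hp : Function.Surjective p) (he : Function.Exact i p) {k : ℕ}
    (h : FPk A k M) (h'' : FPk A (k + 1) M'') : FPk A k M' := by
  haveI := h.finite
  obtain ⟨n, f, hf⟩ := Module.Finite.exists_fin' A M
  have hL : FPk A k (LinearMap.ker (p ∘ₗ f)) :=
    FPk.ker_of_succ (p ∘ₗ f) (hp.comp hf) (fpk_pi n k) h''
  let e := LinearEquiv.ofInjective i hi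
  let fr : LinearMap.ker (p ∘ₗ f) →ₗ[A] LinearMap.range i :=
    (f ∘ₗ (LinearMap.ker (p ∘ₗ f)).subtype).codRestrict _ fun a => (he _).mp a.2
  have hfr : Function.Surjective (e.symm.toLinearMap ∘ₗ fr) := e.symm.surjective.comp fun y => by
    obtain ⟨a, ha⟩ := hf y.1
    exact ⟨⟨a, by
      show p (f a) = 0
      rw [ha]; exact (he _).mpr y.2⟩, Subtype.ext ha⟩
  cases k with
  | zero =>
    haveI : Module.Finite A (LinearMap.ker (p ∘ₗ f)) := hL
    exact Module.Finite.of_surjective _ hfr
  | succ k =>
    refine FPk.quot_succ (Submodule.inclusion (LinearMap.ker_le_ker_comp f p)) _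
      (Submodule.inclusion_injective _) hfr ?_ hL (FPk.ker_of_succ f hf (fpk_pi n k) h)
    intro z
    constructor
    · intro hz
      have : fr z = 0 := e.symm.map_eq_zero_iff.mp hz
      exact ⟨⟨z.1, congrArg Subtype.val this⟩, Subtype.ext rfl⟩
    · rintro ⟨a, rfl⟩
      show e.symm (fr _) = 0
      rw [show fr (Submodule.inclusion _ a) = 0 from Subtype.ext a.2, map_zero]

/-- Direct summands. -/
theorem FPk.of_retraction {M N : Type u} [AddCommGroup M] [Module A M] [AddCommGroup N] [Module A N]
    {k : ℕ} (i : N →ₗ[A] M) (r : M →ₗ[A] N) (hr : ∀ x, r (i x) = x) (h : FPk A k M) :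
    FPk A k N := by
  induction k generalizing N M with
  | zero =>
    haveI : Module.Finite A M := h
    exact Module.Finite.of_surjective r fun x => ⟨i x, hr x⟩
  | succ k ih =>
    have hK : FPk A k (LinearMap.ker r) :=
      ih (LinearMap.ker r).subtype
        ((LinearMap.id - i ∘ₗ r).codRestrict _ fun x => by simp [hr])
        (fun x => Subtype.ext (by simp [LinearMap.mem_ker.mp x.2])) h.succ_imp
    exact FPk.quot_succ (LinearMap.ker r).subtype r Subtype.val_injective (fun x => ⟨i x, hr x⟩)
      (LinearMap.exact_subtype_ker_map r) h hK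

theorem fpk_of_finite_projective (k : ℕ) (M : Type u) [AddCommGroup M] [Module A M] [Module.Finite A M]
    [Module.Projective A M] : FPk A k M := by
  obtain ⟨n, f, hf⟩ := Module.Finite.exists_fin' A M
  obtain ⟨s, hs⟩ := Module.projective_lifting_property f LinearMap.id hf
  exact FPk.of_retraction s f (fun x => LinearMap.congr_fun hs x) (fpk_pi n k)

theorem fpInf_of_finite_projective (M : Type u) [AddCommGroup M] [Module A M] [Module.Finite A M]
    [Module.Projective A M] : FPInf A M := fun k => fpk_of_finite_projective k M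

theorem fpk_of_noetherian [IsNoetherianRing A] : ∀ (k : ℕ) (M : Type u) [AddCommGroup M] [Module A M]
    [Module.Finite A M], FPk A k M
  | 0, M, _, _, h => h
  | k + 1, M, _, _, _ => by
    obtain ⟨n, f, hf⟩ := Module.Finite.exists_fin' A M
    exact ⟨n, f, hf, fpk_of_noetherian k _⟩

theorem fpk_one_iff {M : Type u} [AddCommGroup M] [Module A M] :
    FPk A 1 M ↔ Module.FinitePresentation A M := by
  constructor
  · rintro ⟨n, f, hf, hK⟩
    exact Module.finitePresentation_of_surjective f hf (Module.Finite.iff_fg.mp hK)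
  · intro h
    obtain ⟨n, f, hf⟩ := Module.Finite.exists_fin' A M
    exact ⟨n, f, hf, Module.Finite.iff_fg.mpr (Module.FinitePresentation.fg_ker f hf)⟩

theorem FPInf.finitePresentation {M : Type u} [AddCommGroup M] [Module A M] (h : FPInf A M) :
    Module.FinitePresentation A M := fpk_one_iff.mp (h 1)

theorem FPInf.exists_surjective {M : Type u} [AddCommGroup M] [Module A M] (h : FPInf A M) :
    ∃ (n : ℕ) (f : (Fin n → A) →ₗ[A] M), Function.Surjective f ∧ FPInf A (LinearMap.ker f) := by
  haveI := (h 0).finite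
  obtain ⟨n, f, hf⟩ := Module.Finite.exists_fin' A M
  exact ⟨n, f, hf, fun k => FPk.ker_of_succ f hf (fpk_pi n k) (h (k + 1))⟩

section Restriction

variable {S : Type u} [CommRing S] [Algebra A S]

theorem fpk_pi_algebra {k : ℕ} (hS : FPk A k S) : ∀ n : ℕ, FPk A k (Fin n → S)
  | 0 => fpk_of_subsingleton k _
  | n + 1 => FPk.of_equiv (Fin.consLinearEquiv A (fun _ : Fin (n + 1) => S))
      (fpk_prod hS (fpk_pi_algebra hS n))

/-- Restriction of scalars along an algebra whose underlying module has the property. -/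
theorem FPk.restrictScalars : ∀ {k : ℕ} {M : Type u} [AddCommGroup M] [Module S M] [Module A M]
    [IsScalarTower A S M], FPk A k S → FPk S k M → FPk A k M
  | 0, M, _, _, _, _, hS, h => by
    haveI : Module.Finite A S := hS
    haveI : Module.Finite S M := h
    exact Module.Finite.trans S M
  | k + 1, M, _, _, _, _, hS, ⟨n, g, hg, hK⟩ => by
    refine FPk.quot_succ ((LinearMap.ker g).subtype.restrictScalars A) (g.restrictScalars A)
      Subtype.val_injective hg ?_ (fpk_pi_algebra hS n) (FPk.restrictScalars hS.succ_imp hK)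
    exact LinearMap.exact_subtype_ker_map g

/-- The converse of restriction of scalars. -/
theorem FPk.of_restrictScalars : ∀ {k : ℕ} {M : Type u} [AddCommGroup M] [Module S M] [Module A M]
    [IsScalarTower A S M], FPk A k S → FPk A k M → FPk S k M
  | 0, M, _, _, _, _, _, h => by
    haveI : Module.Finite A M := h
    exact Module.Finite.of_restrictScalars_finite A S M
  | k + 1, M, _, _, _, _, hS, h => by
    haveI := h.finite
    haveI : Module.Finite S M := Module.Finite.of_restrictScalars_finite A S M
    obtain ⟨n, g, hg⟩ := Module.Finite.exists_fin' S M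
    refine ⟨n, g, hg, FPk.of_restrictScalars hS.succ_imp ?_⟩
    exact FPk.sub ((LinearMap.ker g).subtype.restrictScalars A) (g.restrictScalars A)
      Subtype.val_injective hg (LinearMap.exact_subtype_ker_map g) (fpk_pi_algebra hS.succ_imp n) h

theorem fpInf_restrictScalars_iff {M : Type u} [AddCommGroup M] [Module S M] [Module A M]
    [IsScalarTower A S M] (hS : FPInf A S) : FPInf A M ↔ FPInf S M :=
  ⟨fun h k => FPk.of_restrictScalars (hS k) (h k), fun h k => FPk.restrictScalars (hS k) (h k)⟩

end Restriction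

end Groth.Agent.H8Props.PseudoCoh
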