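import Groth.Agent.H8Props.PseudoCoh.PerfectMap
import Mathlib.AlgebraicGeometry.Morphisms.Flat
import Mathlib.AlgebraicGeometry.Morphisms.Affine
import Mathlib.AlgebraicGeometry.Morphisms.Descent
import Mathlib.Algebra.Category.Ring.Constructions

/-!
# Flat base change and flat descent for a local property of morphisms, with the case of perfect morphisms
-/

set_option autoImplicit false
set_option linter.style.haveILetI false
universe u

open TensorProduct AlgebraicGeometry CategoryTheory CategoryTheory.Limits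

namespace Groth.Agent.H8Props.FlatLocalProp

variable {P : MorphismProperty Scheme.{u}}
  {Q : ∀ {R S : Type u} [CommRing R] [CommRing S], (R →+* S) → Prop} [HasRingHomProperty P Q]

/-- Flat base change. -/
theorem of_isPullback
    (hQ : ∀ {R R' B B' : CommRingCat.{u}} {f : R ⟶ B} {g : R ⟶ R'} {g' : B ⟶ B'} {f' : R' ⟶ B'},
      IsPushout g f f' g' → g.hom.Flat → Q f.hom → Q f'.hom)
    {X S X' S' : Scheme.{u}} {f : X ⟶ S} {f' : X' ⟶ S'}
    {g' : X' ⟶ X} {g : S' ⟶ S} [Flat g] (hc : IsPullback g' f' f g)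
    (hf : P f) : P f' := by
  have aff : ∀ {X S X' S' : Scheme.{u}} {f : X ⟶ S} {f' : X' ⟶ S'} {g' : X' ⟶ X} {g : S' ⟶ S}
      [Flat g] [IsAffine S] [IsAffine S'], IsPullback g' f' f g →
      P f → P f' := by
    intro X S X' S' f f' g' g _ _ _ hc hf
    rw [IsZariskiLocalAtSource.iff_of_iSup_eq_top (P := P)
      (fun U : X.affineOpens => g' ⁻¹ᵁ U.1) (by
        rw [← Scheme.Hom.preimage_iSup, iSup_affineOpens_eq_top, Scheme.Hom.preimage_top])]
    intro U
    haveI : IsAffine U.1.toScheme := U.2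
    have sq : IsPullback (g' ∣_ U.1) ((g' ⁻¹ᵁ U.1).ι ≫ f') (U.1.ι ≫ f) g :=
      (isPullback_morphismRestrict g' U.1).paste_vert hc
    haveI : IsAffine (g' ⁻¹ᵁ U.1).toScheme := .of_isPullback sq
    have hUf : Q (U.1.ι ≫ f).appTop.hom :=
      (HasRingHomProperty.iff_of_isAffine (P := P)).mp
        (HasRingHomProperty.comp_of_isOpenImmersion P U.1.ι f hf)
    exact (HasRingHomProperty.iff_of_isAffine (P := P)).mpr
      (hQ (isPushout_appTop_of_isPullback sq).flip
        ((HasRingHomProperty.iff_of_isAffine (P := @Flat)).mp ‹_›) hUf)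
  have hcov : ∀ s : S', ∃ (V : S.Opens) (V' : S'.Opens), IsAffineOpen V ∧ IsAffineOpen V' ∧
      s ∈ V' ∧ V' ≤ g ⁻¹ᵁ V := fun s => by
    obtain ⟨_, ⟨V, hV, rfl⟩, hsV, -⟩ :=
      S.isBasis_affineOpens.exists_subset_of_mem_open (u := Set.univ) (Set.mem_univ (g s)) isOpen_univ
    obtain ⟨_, ⟨V', hV', rfl⟩, hsV', hle⟩ :=
      S'.isBasis_affineOpens.exists_subset_of_mem_open (u := (g ⁻¹ᵁ V : Set S')) hsV (g ⁻¹ᵁ V).2
    exact ⟨V, V', hV, hV', hsV', hle⟩
  choose V V' hV hV' hs hle using hcov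
  rw [IsZariskiLocalAtTarget.iff_of_iSup_eq_top (P := P) V'
    (top_le_iff.mp fun s _ => TopologicalSpace.Opens.mem_iSup.mpr ⟨s, hs s⟩)]
  intro s
  haveI : IsAffine (V s).toScheme := hV s
  haveI : IsAffine (V' s).toScheme := hV' s
  have big := (isPullback_morphismRestrict f' (V' s)).flip.paste_horiz hc
  rw [show (V' s).ι ≫ g = (g.resLE (V s) (V' s) (hle s)) ≫ (V s).ι from
    (Scheme.Hom.resLE_comp_ι g (hle s)).symm] at big
  exact aff (IsPullback.of_right' big (isPullback_morphismRestrict f (V s)).flip)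
    (IsZariskiLocalAtTarget.restrict (P := P) hf (V s))

/-- Descent along flat quasi-compact surjective morphisms. -/
theorem descent
    (hQ : ∀ {R R' B B' : CommRingCat.{u}} {f : R ⟶ B} {g : R ⟶ R'} {g' : B ⟶ B'} {f' : R' ⟶ B'},
      IsPushout g f f' g' → g.hom.Flat → Q f.hom → Q f'.hom)
    (hQ' : ∀ {R R' B B' : CommRingCat.{u}} {f : R ⟶ B} {g : R ⟶ R'} {g' : B ⟶ B'} {f' : R' ⟶ B'},
      IsPushout g f f' g' → g.hom.FaithfullyFlat → Q f'.hom → Q f.hom)
    {X S X' S' : Scheme.{u}} {f : X ⟶ S} {f' : X' ⟶ S'}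
    {g' : X' ⟶ X} {g : S' ⟶ S} [Flat g] [Surjective g] [QuasiCompact g] (hc : IsPullback g' f' f g)
    (hf' : P f') : P f := by
  rw [IsZariskiLocalAtTarget.iff_of_iSup_eq_top (P := P) _
    (iSup_affineOpens_eq_top S)]
  intro V
  haveI : IsAffine V.1.toScheme := V.2
  haveI : CompactSpace (g ⁻¹ᵁ V.1).toScheme :=
    isCompact_iff_compactSpace.mp (g.isCompact_preimage V.2.isCompact)
  obtain ⟨T, p, hp', hp, hT⟩ := (g ⁻¹ᵁ V.1).toScheme.exists_hom_isAffine_of_isZariskiLocalAtSource @Flat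
  haveI : Flat p := hp
  haveI : Surjective p := hp'
  have hV' := IsZariskiLocalAtTarget.restrict (P := P) hf' (g ⁻¹ᵁ V.1)
  have big := (isPullback_morphismRestrict f' (g ⁻¹ᵁ V.1)).flip.paste_horiz hc
  rw [← morphismRestrict_ι] at big
  have sqV := IsPullback.of_right' big (isPullback_morphismRestrict f V.1).flip
  -- restrict to affine pieces of the source
  rw [IsZariskiLocalAtSource.iff_of_iSup_eq_top (P := P) _
    (iSup_affineOpens_eq_top (f ⁻¹ᵁ V.1).toScheme)]
  intro U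
  haveI : IsAffine U.1.toScheme := U.2
  have hT' := of_isPullback (P := P) hQ
    (IsPullback.of_hasPullback (f' ∣_ g ⁻¹ᵁ V.1) p) hV'
  obtain ⟨t, sqT⟩ : ∃ t, IsPullback t (pullback.snd (f' ∣_ g ⁻¹ᵁ V.1) p) (f ∣_ V.1) (p ≫ g ∣_ V.1) :=
    ⟨_, (IsPullback.of_hasPullback (f' ∣_ g ⁻¹ᵁ V.1) p).paste_horiz sqV⟩
  have sq := (isPullback_morphismRestrict t U.1).paste_vert sqT
  haveI : IsAffine (t ⁻¹ᵁ U.1).toScheme := IsAffine.of_isPullback sq
  haveI : Flat (p ≫ g ∣_ V.1) := inferInstance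
  haveI : Surjective (g ∣_ V.1) := IsZariskiLocalAtTarget.restrict (P := @Surjective) ‹_› V.1
  haveI : Surjective (p ≫ g ∣_ V.1) := inferInstance
  have h1 := (HasRingHomProperty.iff_of_isAffine (P := P)).mp
    (HasRingHomProperty.comp_of_isOpenImmersion P
      (t ⁻¹ᵁ U.1).ι _ hT')
  refine (HasRingHomProperty.iff_of_isAffine (P := P)).mpr
    (hQ' (isPushout_appTop_of_isPullback sq).flip ?_ h1)
  exact (Flat.flat_and_surjective_iff_faithfullyFlat_of_isAffine (p ≫ g ∣_ V.1)).mp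
    ⟨inferInstance, inferInstance⟩

end Groth.Agent.H8Props.FlatLocalProp
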