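import Groth.Agent.H8Props.PseudoCoh.RingMap
import Mathlib.AlgebraicGeometry.Morphisms.RingHomProperties
import Mathlib.RingTheory.RingHom.FiniteType
import Mathlib.RingTheory.Localization.BaseChange

/-!
# Pseudo-coherence is a local property of ring maps and of morphisms
-/

set_option autoImplicit false
set_option linter.style.haveILetI false
universe u

open TensorProduct AlgebraicGeometry CategoryTheory

namespace Groth.Agent.H8Props.PseudoCoh

/-- Pseudo-coherence of a ring map. -/
def PCRing {R S : Type u} [CommRing R] [CommRing S] (f : R →+* S) : Prop :=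
  letI := f.toAlgebra
  MoreMor.IsPseudoCoherentHom R S

variable {R S T : Type u} [CommRing R] [CommRing S] [CommRing T]

theorem pcRing_algebraMap [Algebra R S] :
    PCRing (algebraMap R S) ↔ MoreMor.IsPseudoCoherentHom R S := by
  unfold PCRing
  rw [toAlgebra_algebraMap]

theorem PCRing.comp {f : R →+* S} {g : S →+* T} (hf : PCRing f) (hg : PCRing g) :
    PCRing (g.comp f) := by
  let a₁ := f.toAlgebra
  let a₂ := g.toAlgebra
  let a₃ := (g.comp f).toAlgebra
  haveI : IsScalarTower R S T := IsScalarTower.of_algebraMap_eq fun _ => rfl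
  exact isPseudoCoherentHom_comp (A := R) (B := S) (C := T) hf hg

theorem PCRing.of_comp {f : R →+* S} {g : S →+* T} (hf : PCRing f) (hgf : PCRing (g.comp f)) :
    PCRing g := by
  let a₁ := f.toAlgebra
  let a₂ := g.toAlgebra
  let a₃ := (g.comp f).toAlgebra
  haveI : IsScalarTower R S T := IsScalarTower.of_algebraMap_eq fun _ => rfl
  exact isPseudoCoherentHom_of_comp (A := R) (B := S) (C := T) hf hgf

theorem pcRing_of_bijective (f : R →+* S) (hf : Function.Bijective f) : PCRing f := by
  let a := f.toAlgebra
  let φ := (Algebra.ofId R S).comp (MvPolynomial.isEmptyAlgEquiv R PEmpty.{u + 1}).toAlgHom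
  have hb : Function.Bijective φ := hf.comp (MvPolynomial.isEmptyAlgEquiv R PEmpty.{u + 1}).bijective
  exact isPseudoCoherentHom_of_presentation φ hb.surjective (rfp_of_bijective _ hb)

theorem pcRing_away (r : R) (S : Type u) [CommRing S] [Algebra R S] [IsLocalization.Away r S] :
    PCRing (algebraMap R S) :=
  pcRing_algebraMap.mpr (isPseudoCoherentHom_congr
    (IsLocalization.algEquiv (Submonoid.powers r) (Localization.Away r) S) (isPseudoCoherentHom_away r))

theorem PCRing.finiteType {f : R →+* S} (h : PCRing f) : f.FiniteType :=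
  letI := f.toAlgebra
  finiteType_of_isPseudoCoherentHom h

theorem pcRing_ofLocalizationSpanTarget : RingHom.OfLocalizationSpanTarget @PCRing.{u} := by
  intro A B _ _ f s hs H
  have hft : f.FiniteType :=
    RingHom.finiteType_ofLocalizationSpanTarget f s hs fun r => (H r).finiteType
  letI := f.toAlgebra
  haveI : Algebra.FiniteType A B := hft
  obtain ⟨n, φ, hφ⟩ := Algebra.FiniteType.iff_quotient_mvPolynomial''.mp ‹Algebra.FiniteType A B›
  refine isPseudoCoherentHom_iff.mpr ⟨n, φ, hφ, ?_⟩
  let P := MvPolynomial (Fin n) A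
  let s' : Set P := φ ⁻¹' (s ∪ {0})
  have hs' : Ideal.span s' = ⊤ := by
    have h1 : Ideal.map φ.toRingHom (Ideal.span s') = ⊤ := by
      rw [Ideal.map_span, ← top_le_iff, ← hs]
      exact Ideal.span_mono fun b hb => by
        obtain ⟨x, rfl⟩ := hφ b
        exact ⟨x, Or.inl hb, rfl⟩
    have hk : RingHom.ker φ.toRingHom ≤ Ideal.span s' := fun x hx =>
      Ideal.subset_span (Or.inr hx)
    have h2 := congrArg (Ideal.comap φ.toRingHom) h1
    rwa [Ideal.comap_map_of_surjective φ.toRingHom hφ, Ideal.comap_top, ← RingHom.ker_eq_comap_bot,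
      sup_eq_left.mpr hk] at h2
  letI : Algebra P B := φ.toRingHom.toAlgebra
  haveI : IsScalarTower A P B := IsScalarTower.of_algebraMap_eq fun a => (φ.commutes a).symm
  show FPInf P B
  refine FPInf.of_span s' hs' fun h hh => ?_
  let Ph := Localization.Away h
  rcases hh with hh | hh
  · let Bg := Localization.Away (φ h)
    let lam : Ph →+* Bg := IsLocalization.Away.map Ph Bg φ.toRingHom h
    letI : Algebra Ph Bg := lam.toAlgebra
    have hlam : ∀ x, lam (algebraMap P Ph x) = algebraMap B Bg (φ x) := fun x =>
      IsLocalization.map_eq _ x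
    haveI : IsScalarTower P Ph Bg := IsScalarTower.of_algebraMap_eq fun x => by
      rw [IsScalarTower.algebraMap_apply P B Bg]
      exact (hlam x).symm
    haveI : IsScalarTower A Ph Bg := IsScalarTower.of_algebraMap_eq fun a => by
      rw [IsScalarTower.algebraMap_apply A P Ph, IsScalarTower.algebraMap_apply A B Bg]
      exact ((hlam _).trans (by rw [MvPolynomial.algebraMap_eq, ← MvPolynomial.algebraMap_eq, AlgHom.commutes])).symm
    have hsurj : Function.Surjective (IsScalarTower.toAlgHom A Ph Bg) := fun z => by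
      obtain ⟨⟨b, ⟨_, k, rfl⟩⟩, hz⟩ := IsLocalization.surj (Submonoid.powers (φ h)) z
      obtain ⟨x, rfl⟩ := hφ b
      refine ⟨IsLocalization.mk' Ph x (⟨h ^ k, k, rfl⟩ : Submonoid.powers h), ?_⟩
      have hu : IsUnit (algebraMap B Bg (φ h ^ k)) :=
        IsLocalization.map_units Bg (⟨_, k, rfl⟩ : Submonoid.powers (φ h))
      refine hu.mul_right_cancel ?_
      rw [hz, ← map_pow φ, ← hlam, show (IsScalarTower.toAlgHom A Ph Bg) _ = lam _ from rfl,
        ← map_mul, IsLocalization.mk'_spec, hlam]
    -- compare presentations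
    have hA : MoreMor.IsPseudoCoherentHom A Bg := pcRing_algebraMap.mp (H ⟨φ h, hh⟩)
    obtain ⟨m, π, hπ, -⟩ := isPseudoCoherentHom_iff.mp (isPseudoCoherentHom_away h)
    let π₀ := π.comp (MvPolynomial.renameEquiv P (Equiv.ulift.{u, 0} (α := Fin m))).toAlgHom
    have hπ₀ : Function.Surjective π₀ := hπ.comp (MvPolynomial.renameEquiv P _).surjective
    have hπr := rfp_of_isPseudoCoherentHom (isPseudoCoherentHom_away h) π₀ hπ₀
    let ren := MvPolynomial.renameEquiv A
      (Equiv.sumCongr (Equiv.refl (ULift.{u} (Fin m))) (Equiv.ulift.{u, 0} (α := Fin n)))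
    let e := ren.trans (MvPolynomial.sumAlgEquiv A (ULift.{u} (Fin m)) (Fin n))
    let χ : MvPolynomial (ULift.{u} (Fin m) ⊕ ULift.{u} (Fin n)) A →ₐ[A] Bg :=
      (IsScalarTower.toAlgHom A Ph Bg).comp ((π₀.restrictScalars A).comp e.toAlgHom)
    have hχ : Function.Surjective χ := hsurj.comp (hπ₀.comp e.surjective)
    have hχr : RFP (lam.comp (π₀.toRingHom.comp e.toAlgHom.toRingHom)) :=
      rfp_of_isPseudoCoherentHom hA χ hχ
    have hlamr : RFP lam :=
      RFP.of_comp (RFP.comp (rfp_of_bijective _ e.bijective) hπr) hχr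
    haveI : IsLocalizedModule (Submonoid.powers h) (IsScalarTower.toAlgHom P B Bg).toLinearMap := by
      rw [isLocalizedModule_iff_isLocalization, Algebra.algebraMapSubmonoid, Submonoid.map_powers]
      exact (inferInstance : IsLocalization (Submonoid.powers (φ h)) Bg)
    have hbc := IsLocalizedModule.isBaseChange (Submonoid.powers h) Ph
      (IsScalarTower.toAlgHom P B Bg).toLinearMap
    exact fun k => ((hlamr : FPInf Ph Bg) k).of_equiv hbc.equiv.symm
  · have hh0 : φ h = 0 := hh
    haveI : Subsingleton (Ph ⊗[P] B) := subsingleton_of_forall_eq 0 fun z => by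
      induction z using TensorProduct.induction_on with
      | zero => rfl
      | tmul a b =>
        obtain ⟨e, he⟩ := IsLocalization.Away.algebraMap_isUnit (S := Ph) h
        calc a ⊗ₜ[P] b = (h • (↑e⁻¹ * a)) ⊗ₜ[P] b := by
              rw [Algebra.smul_def, ← he, ← mul_assoc, Units.mul_inv, one_mul]
          _ = 0 := by
              rw [TensorProduct.smul_tmul, Algebra.smul_def,
                show algebraMap P B h = 0 from hh0, zero_mul, TensorProduct.tmul_zero]
      | add x y hx hy => rw [hx, hy, add_zero]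
    exact fun k => fpk_of_subsingleton k _

theorem pcRing_respectsIso : RingHom.RespectsIso @PCRing.{u} :=
  ⟨fun _ e hf => hf.comp (pcRing_of_bijective _ e.bijective),
    fun _ e hg => (pcRing_of_bijective _ e.bijective).comp hg⟩

theorem pcRing_stableUnderCompositionWithLocalizationAwayTarget :
    RingHom.StableUnderCompositionWithLocalizationAwayTarget @PCRing.{u} :=
  fun _ _ T _ _ _ _ s _ _ hf => hf.comp (pcRing_away s T)

theorem pcRing_localizationAwayPreserves : RingHom.LocalizationAwayPreserves @PCRing.{u} := by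
  intro R S _ _ f r R' S' _ _ _ _ _ _ hf
  refine PCRing.of_comp (pcRing_away r R') ?_
  rw [show (IsLocalization.Away.map R' S' f r).comp (algebraMap R R') = (algebraMap S S').comp f from
    IsLocalization.map_comp _]
  exact hf.comp (pcRing_away (f r) S')

theorem pcRing_ofLocalizationSpan : RingHom.OfLocalizationSpan @PCRing.{u} := by
  intro R S _ _ f s hs H
  refine pcRing_ofLocalizationSpanTarget f (f '' s) (by
    rw [← Ideal.map_span, hs, Ideal.map_top]) ?_
  rintro ⟨_, r, hr, rfl⟩
  show PCRing ((algebraMap S (Localization.Away (f r))).comp f)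
  rw [show (algebraMap S (Localization.Away (f r))).comp f =
    (Localization.awayMap f r).comp (algebraMap R (Localization.Away r)) from
      (IsLocalization.map_comp _).symm]
  exact (pcRing_away r (Localization.Away r)).comp (H ⟨r, hr⟩)

theorem pcRing_propertyIsLocal : RingHom.PropertyIsLocal @PCRing.{u} :=
  ⟨pcRing_localizationAwayPreserves, pcRing_ofLocalizationSpanTarget, pcRing_ofLocalizationSpan,
    pcRing_stableUnderCompositionWithLocalizationAwayTarget⟩

instance hasRingHomProperty_isPseudoCoherentMor :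
    HasRingHomProperty @MoreMor.IsPseudoCoherentMor.{u} @PCRing.{u} where
  isLocal_ringHomProperty := pcRing_propertyIsLocal
  eq_affineLocally' := by
    ext X Y f
    rw [affineLocally_iff_affineOpens_le]
    exact ⟨fun h U V e => h V.1 U.1 V.2 U.2 e, fun h U V hU hV e => h ⟨V, hV⟩ ⟨U, hU⟩ e⟩

end Groth.Agent.H8Props.PseudoCoh
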