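import Groth.Agent.H8Props.PseudoCoh.PerfectMap
import Groth.Agent.H8Props.PseudoCoh.TorDim
import Mathlib.RingTheory.Spectrum.Prime.FreeLocus

/-!
# Finite tor dimension from the local rings
-/

set_option autoImplicit false
set_option linter.style.haveILetI false

universe u

open TensorProduct

namespace Groth.Agent.H8Props.PseudoCoh

variable {P : Type u} [CommRing P]

theorem baseChange_ker_equiv (P' : Type u) [CommRing P'] [Algebra P P'] [Module.Flat P P'] {M F : Type u}
    [AddCommGroup M] [Module P M] [AddCommGroup F] [Module P F] (f : F →ₗ[P] M) :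
    Nonempty (P' ⊗[P] LinearMap.ker f ≃ₗ[P'] LinearMap.ker (f.baseChange P')) :=
  ⟨LinearEquiv.ofBijective
    ((((LinearMap.ker f).subtype).baseChange P').codRestrict _ fun z => by
      induction z using TensorProduct.induction_on with
      | zero => simp
      | add a b ha hb => rw [map_add]; exact add_mem ha hb
      | tmul a b => simp [LinearMap.mem_ker, LinearMap.mem_ker.1 b.2])
    ⟨fun a b h => Module.Flat.lTensor_preserves_injective_linearMap (M := P') _
        Subtype.val_injective (congrArg Subtype.val h),
      fun z => by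
        have hex := Module.Flat.lTensor_exact P' (LinearMap.exact_subtype_ker_map f)
        obtain ⟨y, hy⟩ := (hex z.1).1 z.2
        exact ⟨y, Subtype.ext hy⟩⟩⟩

/-- Tor dimension at a point spreads out. -/
theorem exists_away_torDimLE : ∀ (D : ℕ) (M : Type u) [AddCommGroup M] [Module P M], FPInf P M →
    ∀ (p : PrimeSpectrum P),
      DRing.HasTorDimLE (Localization.AtPrime p.asIdeal) D (Localization.AtPrime p.asIdeal ⊗[P] M) →
      ∃ h : P, h ∉ p.asIdeal ∧ DRing.HasTorDimLE (Localization.Away h) D (Localization.Away h ⊗[P] M)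
  | 0, M, _, _, hM, p, h => by
    haveI := hM.finitePresentation
    haveI := hasTorDimLE_zero_iff.mp h
    have hp : p ∈ Module.freeLocus P M :=
      (Module.mem_freeLocus_iff_tensor p (Localization.AtPrime p.asIdeal)).2
        Module.free_of_flat_of_isLocalRing
    obtain ⟨_, ⟨r, rfl⟩, hpr, hsub⟩ :=
      PrimeSpectrum.isTopologicalBasis_basic_opens.exists_subset_of_mem_open hp Module.isOpen_freeLocus
    haveI := Module.basicOpen_subset_freeLocus_iff.1 hsub
    haveI : Module.Projective (Localization.Away r) (Localization.Away r ⊗[P] M) :=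
      Module.Projective.of_equiv (LocalizedModule.equivTensorProduct (Submonoid.powers r) M)
    exact ⟨r, hpr, hasTorDimLE_zero_iff.mpr inferInstance⟩
  | D + 1, M, _, _, hM, p, h => by
    obtain ⟨n, f, hf, -⟩ := hM 1
    have hker : FPInf P (LinearMap.ker f) := fun k => FPk.ker_of_succ f hf (fpk_pi n k) (hM (k + 1))
    obtain ⟨e⟩ := baseChange_ker_equiv (Localization.AtPrime p.asIdeal) f
    have h' := hasTorDimLE_of_equiv e.symm ((hasTorDimLE_succ_iff (f.baseChange (Localization.AtPrime p.asIdeal))
      (LinearMap.lTensor_surjective _ hf)).1 h)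
    obtain ⟨r, hr, hrD⟩ := exists_away_torDimLE D _ hker p h'
    haveI : Module.Flat P (Localization.Away r) := IsLocalization.flat _ (Submonoid.powers r)
    obtain ⟨e'⟩ := baseChange_ker_equiv (Localization.Away r) f
    exact ⟨r, hr, (hasTorDimLE_succ_iff (f.baseChange (Localization.Away r))
      (LinearMap.lTensor_surjective _ hf)).2 (hasTorDimLE_of_equiv e' hrD)⟩

variable {A B : Type u} [CommRing A] [CommRing B] [Algebra A B]

/-- Finite tor dimension is local on the source for pseudo-coherent algebras. -/
theorem hasFiniteTorDim_of_atPrime (hpc : MoreMor.IsPseudoCoherentHom A B)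
    (h : ∀ q : PrimeSpectrum B, DRing.HasFiniteTorDim A (Localization.AtPrime q.asIdeal)) :
    DRing.HasFiniteTorDim A B := by
  obtain ⟨n, φ, hφ, hr⟩ := isPseudoCoherentHom_iff.mp hpc
  let P := MvPolynomial (Fin n) A
  letI : Algebra P B := φ.toRingHom.toAlgebra
  haveI : IsScalarTower A P B := IsScalarTower.of_algebraMap_eq fun a => (φ.commutes a).symm
  have key : ∀ q : PrimeSpectrum B, ∃ (r : B) (d : ℕ),
      r ∉ q.asIdeal ∧ DRing.HasTorDimLE A d (Localization.Away r) := fun q => by
    obtain ⟨d, hd⟩ := h q
    let p : PrimeSpectrum P := PrimeSpectrum.comap φ.toRingHom q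
    let Bq := Localization.AtPrime q.asIdeal
    let Pp := Localization.AtPrime p.asIdeal
    have hmap : Algebra.algebraMapSubmonoid B p.asIdeal.primeCompl = q.asIdeal.primeCompl := by
      ext b
      constructor
      · rintro ⟨x, hx, rfl⟩
        exact hx
      · intro hb
        obtain ⟨x, rfl⟩ := hφ b
        exact ⟨x, hb, rfl⟩
    haveI : IsLocalization (Algebra.algebraMapSubmonoid B p.asIdeal.primeCompl) Bq := by
      rw [hmap]
      infer_instance
    let a : B →ₗ[P] Bq := (IsScalarTower.toAlgHom P B Bq).toLinearMap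
    haveI : IsLocalizedModule p.asIdeal.primeCompl a := isLocalizedModule_iff_isLocalization.mpr inferInstance
    have h1 : DRing.HasTorDimLE P (d + n) Bq :=
      tdr_algebraMap.mp (show TDR (algebraMap P Bq) (d + n) from
        (tdr_presentation hd n (IsScalarTower.toAlgHom A P Bq) :))
    haveI : Module.Flat P Pp := IsLocalization.flat Pp p.asIdeal.primeCompl
    have h2 : DRing.HasTorDimLE Pp (d + n) (Pp ⊗[P] B) := by
      letI : Module Pp Bq := IsLocalizedModule.module p.asIdeal.primeCompl a
      haveI : IsScalarTower P Pp Bq := IsLocalizedModule.isScalarTower_module p.asIdeal.primeCompl a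
      haveI : IsLocalizedModule p.asIdeal.primeCompl (LinearMap.id : Bq →ₗ[P] Bq) :=
        isLocalizedModule_id p.asIdeal.primeCompl Bq Pp
      exact hasTorDimLE_of_equiv
        ((IsLocalizedModule.isBaseChange p.asIdeal.primeCompl Pp (LinearMap.id : Bq →ₗ[P] Bq)).equiv ≪≫ₗ
          (IsLocalizedModule.isBaseChange p.asIdeal.primeCompl Pp a).equiv.symm)
        (hasTorDimLE_baseChange h1)
    obtain ⟨r, hr', hrd⟩ := exists_away_torDimLE (d + n) B hr p h2
    let P' := Localization.Away r
    haveI : Module.Flat P P' := IsLocalization.flat P' (Submonoid.powers r)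
    haveI : Module.Flat A P' := Module.Flat.trans A P P'
    refine ⟨φ r, d + n, hr', ?_⟩
    let b : B →ₗ[P] Localization.Away (φ r) := (IsScalarTower.toAlgHom P B _).toLinearMap
    haveI : IsLocalization (Algebra.algebraMapSubmonoid B (Submonoid.powers r)) (Localization.Away (φ r)) := by
      rw [Algebra.algebraMapSubmonoid_powers]
      exact inferInstanceAs (IsLocalization.Away (φ r) _)
    haveI : IsLocalizedModule (Submonoid.powers r) b := isLocalizedModule_iff_isLocalization.mpr inferInstance
    let e2 : P' ⊗[P] B ≃ₗ[P] Localization.Away (φ r) :=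
      (LocalizedModule.equivTensorProduct (Submonoid.powers r) B).symm.restrictScalars P ≪≫ₗ
        IsLocalizedModule.iso (Submonoid.powers r) b
    exact hasTorDimLE_of_equiv (e2.restrictScalars A) (hasTorDimLE_restrictScalars hrd)
  choose r d hr hd using key
  have htop : Ideal.span (Set.range r) = ⊤ := by
    by_contra hne
    obtain ⟨m, hm, hle⟩ := Ideal.exists_le_maximal _ hne
    exact hr ⟨m, hm.isPrime⟩ (hle (Ideal.subset_span ⟨_, rfl⟩))
  obtain ⟨s, hs, hs'⟩ := Submodule.mem_span_finite_of_mem_span (htop ▸ Submodule.mem_top : (1 : B) ∈ _)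
  choose g hg using fun x : s => hs x.2
  let C := ∀ x : s, Localization.Away (r (g x))
  haveI : Module.FaithfullyFlat B C := by
    haveI : ∀ x : s, Module.Flat B (Localization.Away (r (g x))) := fun x =>
      IsLocalization.flat _ (Submonoid.powers (r (g x)))
    refine Module.FaithfullyFlat.of_comap_surjective fun q => ?_
    obtain ⟨x, hxq⟩ : ∃ x : s, r (g x) ∉ q.asIdeal := by
      by_contra! hcon
      refine q.isPrime.ne_top ((Ideal.eq_top_iff_one _).2 (Ideal.span_le.mpr ?_ hs'))
      intro y hy
      have h := hcon ⟨y, hy⟩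
      rwa [hg ⟨y, hy⟩] at h
    obtain ⟨Q, hQ⟩ : q ∈ Set.range (PrimeSpectrum.comap (algebraMap B (Localization.Away (r (g x))))) := by
      rw [PrimeSpectrum.localization_away_comap_range _ (r (g x))]
      exact hxq
    refine ⟨Q.comap (Pi.evalRingHom (fun x : s => Localization.Away (r (g x))) x), ?_⟩
    rw [← hQ]
    rfl
  refine ⟨Finset.univ.sup fun x => d (g x), hasTorDimLE_algebra_of_faithfullyFlat C ?_⟩
  exact hasTorDimLE_pi _ fun x => hasTorDimLE_mono (Finset.le_sup (f := fun x => d (g x)) (Finset.mem_univ x)) (hd (g x))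

end Groth.Agent.H8Props.PseudoCoh
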